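import Cfsg.Agent.OM.Defs
import Cfsg.Agent.H657.PRational
import Cfsg.Agent.H671.Link
import Cfsg.Agent.H624.MGroupA
import Cfsg.Agent.Blocks.CliffordCentral
import Cfsg.Agent.Blocks.CentralProduct
import Cfsg.Agent.Blocks.Covering
import Cfsg.Agent.S0188
import Cfsg.Agent.S0967
import Cfsg.Agent.S4664

/-!
# OM (S4894), the components step: general tools (helper48)
-/

set_option autoImplicit false

namespace Cfsg.Agent.OM.Cp

open Cfsg Subgroup Cfsg.Agent.H657 Cfsg.Agent.Characters.Core Cfsg.Agent.Blocks.Local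

variable {p : ℕ} {M : Ideal AlgInt}

/-- Clifford: the restriction is the average of the conjugates of a constituent -/
theorem avg {G : Type} [Group G] [Fintype G] (N : Subgroup G) [hN : N.Normal] [Fintype N] (χ : IrrCharacter G)
    {θ : N → ℂ} (hθ : IsIrrCharacter N θ) (h : classInner (fun n : N => (χ : G → ℂ) n) θ ≠ 0) (n : N) :
    (Fintype.card G : ℂ) * ((χ : G → ℂ) n / (χ : G → ℂ) 1) = ∑ g : G, θ (MulAut.conjNormal g n) / θ 1 := by
  classical
  have key : ∀ φ : N → ℂ, ∑ m : N, (∑ g : G, if MulAut.conjNormal g n = m then (1 : ℂ) else 0) * φ m =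
      ∑ g : G, φ (MulAut.conjNormal g n) := by
    intro φ
    simp_rw [Finset.sum_mul]
    rw [Finset.sum_comm]
    exact Finset.sum_congr rfl fun g _ => by simp
  have h1 := Blocks.CliffordCentral.sum_div_eq_of_constituent N χ ⟨θ, hθ⟩ h
    (fun m => ∑ g : G, if MulAut.conjNormal g n = m then (1 : ℂ) else 0) fun k m => by
      refine Fintype.sum_equiv (Equiv.mulLeft k⁻¹) _ _ fun g => ?_
      refine if_congr ?_ rfl rfl
      rw [Subtype.ext_iff, Subtype.ext_iff]
      simp only [MulAut.conjNormal_apply, Equiv.coe_mulLeft]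
      constructor
      · intro e
        rw [mul_inv_rev, inv_inv]
        calc k⁻¹ * g * n * (g⁻¹ * k) = k⁻¹ * (g * n * g⁻¹) * k := by group
          _ = m := by rw [e]; group
      · intro e
        rw [← e]
        group
  rw [key, key] at h1
  rw [← Finset.sum_div, ← h1, ← mul_div_assoc]
  congr 1
  rw [Finset.sum_congr rfl fun g _ => show (χ : G → ℂ) (MulAut.conjNormal g n : N) = (χ : G → ℂ) n from
    Blocks.CliffordCentral.irr_conj χ n g]
  simp

/-- blocks descend along a surjection with kernel of order prime to `p` -/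
theorem desc (hM : IsPModular p M) {D N : Type} [Group D] [Finite D] [Group N] (f : D →* N)
    (hf : Function.Surjective f) (hk : ¬ p ∣ Nat.card f.ker) {ψ : N → ℂ} (hψ : IsIrrCharacter N ψ) {Θ : D → ℂ}
    (hΘ : IsIrrCharacter D Θ) (h : SameBlock M (fun d => ψ (f d)) Θ) :
    ∃ ψ' : N → ℂ, IsIrrCharacter N ψ' ∧ (∀ d, ψ' (f d) = Θ d) ∧ SameBlock M ψ ψ' := by
  have : Fact p.Prime := ⟨hM.1⟩
  let e := QuotientGroup.quotientKerEquivOfSurjective f hf
  have he : ∀ d : D, e d = f d := fun _ => rfl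
  obtain ⟨ψ', h1, h2⟩ := S0967.result p M hM f.ker hk ⟨_, isIrr_comp e.toMonoidHom e.surjective hψ⟩ ⟨Θ, hΘ⟩ h
  refine ⟨fun n => ψ'.1 (e.symm n), isIrr_comp e.symm.toMonoidHom e.symm.surjective ψ'.2, fun d => ?_, fun n => ?_⟩
  · show ψ'.1 (e.symm (f d)) = Θ d
    rw [← he, e.symm_apply_apply]
    exact (congrFun h1 d).symm
  · have h3 := h2 (e.symm n)
    rw [← Blocks.Covering.centralChar_comp_equiv e.symm, ← Blocks.Covering.centralChar_comp_equiv e.symm] at h3
    convert h3 using 3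
    funext x
    exact congrArg ψ (e.apply_symm_apply x).symm

section th

variable {Z X ι : Type} [Fintype ι]

/-- the product character -/
noncomputable def th (μ : Z → ℂ) (ϑ : ι → X → ℂ) : Z × (ι → X) → ℂ := fun d => μ d.1 * ∏ i, ϑ i (d.2 i)

variable [Group Z] [Group X] {μ : Z → ℂ} {ϑ ϑ' : ι → X → ℂ}

theorem th_single [DecidableEq ι] (μ : Z → ℂ) (ϑ : ι → X → ℂ) (i : ι) (x : X) :
    th μ ϑ (1, Pi.mulSingle i x) * ϑ i 1 = ϑ i x * th μ ϑ 1 := by
  change (μ 1 * ∏ j, ϑ j ((Pi.mulSingle i x : ι → X) j)) * ϑ i 1 = ϑ i x * (μ 1 * ∏ j, ϑ j 1)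
  rw [← Finset.mul_prod_erase _ _ (Finset.mem_univ i), ← Finset.mul_prod_erase _ (fun j => ϑ j 1) (Finset.mem_univ i),
    Pi.mulSingle_eq_same, Finset.prod_congr rfl fun j hj => by rw [Pi.mulSingle_eq_of_ne (Finset.ne_of_mem_erase hj)]]
  ring

theorem cc_th (μ : Z → ℂ) (ϑ : ι → X → ℂ) (d : Z × (ι → X)) :
    centralChar (th μ ϑ) d = centralChar μ d.1 * ∏ i, centralChar (ϑ i) (d.2 i) := by
  have h : centralizer ({d} : Set (Z × (ι → X))) =
      (centralizer ({d.1} : Set Z)).prod (Subgroup.pi Set.univ fun i => centralizer ({d.2 i} : Set X)) := by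
    ext y
    simp [mem_centralizer_singleton_iff, mem_prod, mem_pi, Prod.ext_iff, funext_iff]
  unfold centralChar
  rw [h, index_prod, index_pi]
  simp only [th, Prod.fst_one, Prod.snd_one, Pi.one_apply, Finset.prod_div_distrib, Finset.prod_mul_distrib]
  push_cast
  ring

variable [Finite Z] [Finite X]

theorem th_irr (hμ : IsIrrCharacter Z μ) (h : ∀ i, IsIrrCharacter X (ϑ i)) : IsIrrCharacter _ (th μ ϑ) :=
  (S0188.result _).2 ⟨μ, _, hμ, H671.Link.isIrr_pi h, rfl⟩

theorem exists_th {Θ : Z × (ι → X) → ℂ} (h : IsIrrCharacter _ Θ) :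
    ∃ (μ : Z → ℂ) (ϑ : ι → X → ℂ), IsIrrCharacter Z μ ∧ (∀ i, IsIrrCharacter X (ϑ i)) ∧ Θ = th μ ϑ := by
  obtain ⟨μ, φ, h1, h2, rfl⟩ := (S0188.result _).1 h
  obtain ⟨ϑ, h3, h4⟩ := H624.MGroup.exists_pi φ h2
  exact ⟨μ, ϑ, h1, h3, funext fun d => by rw [h4]; rfl⟩

theorem th_same (hM : IsPModular p M) (hμ : IsIrrCharacter Z μ) (h : ∀ i, IsIrrCharacter X (ϑ i))
    (h' : ∀ i, IsIrrCharacter X (ϑ' i)) (hs : ∀ i, SameBlock M (ϑ i) (ϑ' i)) : SameBlock M (th μ ϑ) (th μ ϑ') := by
  classical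
  have := isPrime_of_isPModular hM
  intro d
  rw [cc_th, cc_th, ← mul_sub]
  refine memLocalIdeal_mul_left (memLocalRing_of_isIntegral (Blocks.CentralProduct.isIntegral_centralChar hμ _)) ?_
  have hr : ∀ {φ : X → ℂ}, IsIrrCharacter X φ → ∀ x, MemLocalRing M (centralChar φ x) := fun hφ x =>
    memLocalRing_of_isIntegral (Blocks.CentralProduct.isIntegral_centralChar hφ _)
  induction (Finset.univ : Finset ι) using Finset.induction_on with
  | empty => simpa using memLocalIdeal_zero
  | insert j s hj ih =>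
    rw [Finset.prod_insert hj, Finset.prod_insert hj]
    have h1 := memLocalIdeal_add (memLocalIdeal_mul_left (hr (h j) (d.2 j)) ih)
      (memLocalIdeal_mul_right (hs j (d.2 j)) (memLocalRing_prod (s := s) fun i _ => hr (h' i) (d.2 i)))
    convert h1 using 1
    ring

omit [Group X] [Finite X] in
theorem th_rat (hp : p.Prime) (hZ : ¬ p ∣ Nat.card Z) (hμ : IsIrrCharacter Z μ) (h : ∀ i, PRat p (ϑ i)) :
    PRat p (th μ ϑ) := by
  choose n hn hm using h
  have h0 : ¬ p ∣ Nat.card Z * ∏ i, n i := fun k => (hp.dvd_mul.1 k).elim hZ fun k => by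
    obtain ⟨i, -, hi⟩ := (hp.prime.dvd_finset_prod_iff _).1 k
    exact hn i hi
  have h1 : Nat.card Z * ∏ i, n i ≠ 0 := fun k => h0 (k ▸ dvd_zero p)
  refine ⟨_, h0, fun d => mul_mem (S4664.char_mem (isIrr_isCharacter hμ) h1 (dvd_mul_right _ _) pow_card_eq_one')
    (prod_mem fun i _ => ?_)⟩
  refine IntermediateField.adjoin_simple_le_iff.2 ?_ (hm i _)
  refine S4664.root_mem h1 ((Finset.dvd_prod_of_mem n (Finset.mem_univ i)).mul_left _) ?_
  exact (Complex.isPrimitiveRoot_exp _ fun k : n i = 0 => hn i (k ▸ dvd_zero p)).pow_eq_one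

end th

section aut

variable {X : Type} [Group X] {Γ : Subgroup (MulAut X)}

/-- the extension property is invariant under `Γ` -/
theorem ext_comp {θ : X → ℂ} (h : Ext p Γ θ) {β : MulAut X} (hβ : β ∈ Γ) : Ext p Γ fun x => θ (β x) := by
  intro S hS hp hfix
  obtain ⟨A, _, j, t, Ψ, h1, h2, h3, h4⟩ := h (S.map (MulAut.conj β).toMonoidHom)
    (by rintro _ ⟨α, hα, rfl⟩; exact mul_mem (mul_mem hβ (hS hα)) (inv_mem hβ)) (hp.map _)
    (by
      rintro _ ⟨α, hα, rfl⟩ x
      exact (hfix α hα (β.symm x)).trans (congrArg θ (β.apply_symm_apply x)))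
  refine ⟨A, inferInstance, j.comp β.toMonoidHom, t.comp ((MulAut.conj β).toMonoidHom.subgroupMap S), Ψ, h1,
    fun x => h2 _, fun α x => ?_, fun y hy ⟨k, hk⟩ => ?_⟩
  · have := h3 ((MulAut.conj β).toMonoidHom.subgroupMap S α) (β x)
    rw [show ((MulAut.conj β).toMonoidHom.subgroupMap S α).1 (β x) = β (α.1 x) from
      congrArg (fun y => β (α.1 y)) (β.symm_apply_apply x)] at this
    exact this
  · have e : MulAut.conj (β y) = (MulAut.conj β).toMonoidHom (MulAut.conj y) := by
      ext x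
      simp
    have := h4 (β y) ⟨_, hy, e.symm⟩ ⟨k, by rw [← map_pow, hk, map_one]⟩
    refine Eq.trans ?_ this
    exact congrArg t (Subtype.ext e.symm)

variable [Finite X] {V : ValuationSubring ℂ}

attribute [local instance] Above.isAlgClosed

theorem supp' (hM : IsPModular p M) (hV : Above M V) {κ : Type} [Fintype κ] (idx : κ → IBr V X) {A : Set (IBr V X)}
    (h : ∑ l, phi p (idx l) ∈ Submodule.span ℂ (phi p '' A)) (l : κ) : idx l ∈ A := by
  classical
  have : Fact p.Prime := ⟨hM.1⟩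
  have : CharP (IsLocalRing.ResidueField V) p := hV.charP hM
  obtain ⟨c, hc, h1⟩ := (Finsupp.mem_span_image_iff_linearCombination ℂ).1 h
  have h2 : c = ∑ l, Finsupp.single (idx l) (1 : ℂ) := by
    refine linearIndependent_phi (V := V) (G := X) (p := p) ?_
    rw [map_sum]
    simpa using h1
  refine (Finsupp.mem_supported ℂ c).1 hc (Finsupp.mem_support_iff.2 ?_)
  rw [h2, Finsupp.finset_sum_apply]
  simp only [Finsupp.single_apply, Finset.sum_boole, Nat.cast_ne_zero]
  exact Finset.card_ne_zero.2 ⟨l, by simp⟩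

/-- under `One` the Brauer characters of the block have one degree -/
theorem deg_eq (hM : IsPModular p M) (hV : Above M V) {b : Set (IrrCharacter X)} (hb : IsPBlock M b) (h : One p Γ b)
    {i j : IBr V X} (hi : i ∈ ibrUnder V b) (hj : j ∈ ibrUnder V b) : phi p i 1 = phi p j 1 := by
  classical
  have := Fintype.ofFinite Γ
  have := isPrime_of_isPModular hM
  have hr : ∀ (α : MulAut X) (x : X), IsPRegular p (α x) ↔ IsPRegular p x := fun α x => by
    unfold IsPRegular
    rw [MulEquiv.orderOf_eq]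
  have h1 : IsPRegular p (1 : X) := by
    unfold IsPRegular
    rw [orderOf_one, Nat.dvd_one]
    exact hM.1.one_lt.ne'
  obtain ⟨θ, hθ, -⟩ := id hi
  have key : ∀ k ∈ ibrUnder V b, ∀ x, IsPRegular p x →
      (∑ α : Γ, phi p k (α.1 x)) * θ.1 1 = (∑ α : Γ, θ.1 (α.1 x)) * phi p k 1 := by
    intro k hk x hx
    have h2 : phi p k ∈ (H608.BlockRank.charSpan b).map (H608.BlockRank.pReg p) := by
      rw [map_pReg_charSpan hM hV (H608.BlockRank.isUnion_of_isPBlock hb)]
      exact Submodule.subset_span ⟨k, hk, rfl⟩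
    unfold H608.BlockRank.charSpan at h2
    rw [Submodule.map_span] at h2
    generalize phi p k = u at h2
    induction h2 using Submodule.span_induction with
    | mem u hu =>
      obtain ⟨_, ⟨η, hη, rfl⟩, rfl⟩ := hu
      have h3 := h η hη θ hθ x hx
      rw [finsum_eq_sum_of_fintype, finsum_eq_sum_of_fintype] at h3
      rw [H608.BlockRank.pReg_of h1, Finset.sum_congr rfl fun α _ => H608.BlockRank.pReg_of ((hr α.1 x).2 hx) _]
      exact h3
    | zero => simp
    | add u v _ _ hu hv => simp only [Pi.add_apply, Finset.sum_add_distrib, add_mul, mul_add, hu, hv]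
    | smul a u _ hu =>
      simp only [Pi.smul_apply, smul_eq_mul, ← Finset.mul_sum]
      rw [mul_assoc, hu]
      ring
  have key2 : ∀ k ∈ ibrUnder V b, ∀ l ∈ ibrUnder V b, phi p l 1 ≠ 0 → phi p k 1 = phi p l 1 := by
    intro k hk l hl h0
    have h2 : ∑ α : Γ, phi p (k.map α.1.symm) = (phi p k 1 / phi p l 1) • ∑ α : Γ, phi p (l.map α.1.symm) := by
      funext x
      simp only [Finset.sum_apply, Pi.smul_apply, phi_map, MulEquiv.symm_symm, smul_eq_mul]
      by_cases hx : IsPRegular p x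
      · have h3 := key k hk x hx
        have h4 := key l hl x hx
        have h5 := isIrr_apply_one_ne_zero θ.2
        field_simp
        refine mul_right_cancel₀ h5 ?_
        linear_combination phi p l 1 * h3 - phi p k 1 * h4
      · rw [Finset.sum_eq_zero fun α _ => phi_of_not _ (mt (hr α.1 x).1 hx),
          Finset.sum_eq_zero fun α _ => phi_of_not _ (mt (hr α.1 x).1 hx), mul_zero]
    obtain ⟨α, hα⟩ := supp' hM hV (fun α : Γ => k.map α.1.symm) (A := Set.range fun α : Γ => l.map α.1.symm)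
      (h2 ▸ Submodule.smul_mem _ _ (Submodule.sum_mem _ fun α _ => Submodule.subset_span ⟨_, ⟨α, rfl⟩, rfl⟩)) 1
    have h3 := congrArg (fun m => phi p m 1) hα
    simpa only [phi_map, map_one] using h3.symm
  by_cases h0 : phi p j 1 = 0
  · by_cases h0' : phi p i 1 = 0
    · rw [h0, h0']
    · exact (key2 j hj i hi h0').symm
  · exact key2 i hi j hj h0

end aut

end Cfsg.Agent.OM.Cp
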