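import Cfsg.Agent.OM.Defs
import Cfsg.Agent.H699.IBrGen
import Cfsg.Agent.H112.Clif.Brauer
import Cfsg.Agent.H662.Burnside
import Cfsg.Agent.H227.ThB.Eig

/-!
# OM (S4894): Gallagher's theorem for Brauer characters, `boxGal` (helper39)
-/

set_option autoImplicit false
set_option linter.unusedSectionVars false

namespace Cfsg.Agent.OM

open Cfsg Cfsg.Agent.H657 IsLocalRing Module Polynomial
open Cfsg.Agent.H112.Clif (irr_sub irr_nontrivial exists_irr_sub lift_mul map_alg)
open Cfsg.Agent.H699.IBrLift (exists_sum_bc phi_one)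

attribute [local instance] Above.isAlgClosed

namespace Gal

section lin

variable {K : Type} [Field K] [IsAlgClosed K] {U W : Type} [AddCommGroup U] [Module K U] [FiniteDimensional K U]
  [AddCommGroup W] [Module K W] [FiniteDimensional K W]

theorem charpoly_sub (f : Module.End K W) (A : Submodule K W) (h : A ≤ A.comap f) :
    f.charpoly = (f.restrict h).charpoly * (A.mapQ A f h).charpoly := by
  have : Infinite K := IsAlgClosed.instInfinite
  refine Polynomial.funext fun t => ?_
  have h1 : A ≤ A.comap (algebraMap K (Module.End K W) t - f) := fun w hw => A.sub_mem (A.smul_mem t hw) (h hw)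
  rw [eval_mul, LinearMap.eval_charpoly, LinearMap.eval_charpoly, LinearMap.eval_charpoly,
    LinearMap.det_eq_det_mul_det A _ h1]
  congr 2
  refine LinearMap.ext fun w => ?_
  obtain ⟨w, rfl⟩ := A.mkQ_surjective w
  rfl

variable {N E : Type} [Group N] [Group E] (s : N →* E) (σ : Representation K E U) (τ : Representation K E W)

/-- the homomorphisms of `N`-modules -/
def Hm : Submodule K (U →ₗ[K] W) where
  carrier := {f | ∀ n u, f (σ (s n) u) = τ (s n) (f u)}
  add_mem' := fun {a b} ha hb n u => by rw [LinearMap.add_apply, LinearMap.add_apply, map_add, ha, hb]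
  zero_mem' := fun n u => by rw [LinearMap.zero_apply, LinearMap.zero_apply, map_zero]
  smul_mem' := fun c a ha n u => by rw [LinearMap.smul_apply, LinearMap.smul_apply, map_smul, ha]

theorem mul_ap {G : Type} [Group G] (σ : Representation K G U) (g h : G) (u : U) : σ (g * h) u = σ g (σ h u) := by
  rw [map_mul, Module.End.mul_apply]

variable [hs : s.range.Normal]

theorem linHom_mem (g : E) : Hm s σ τ ≤ (Hm s σ τ).comap (Representation.linHom σ τ g) := fun f hf n u => by
  obtain ⟨n', h⟩ := hs.conj_mem _ ⟨n, rfl⟩ g⁻¹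
  have h1 : g⁻¹ * s n = s n' * g⁻¹ := by rw [h]; group
  have h2 : g * s n' = s n * g := by rw [h]; group
  change τ g (f (σ g⁻¹ (σ (s n) u))) = τ (s n) (τ g (f (σ g⁻¹ u)))
  rw [← mul_ap, h1, mul_ap, hf, ← mul_ap, h2, mul_ap]

/-- the action of `E / N` -/
noncomputable def hmRep : Representation K (E ⧸ s.range) (Hm s σ τ) :=
  QuotientGroup.lift s.range ((Representation.linHom σ τ).subrepresentation _ (linHom_mem s σ τ)) (by
    rintro _ ⟨n, rfl⟩
    refine LinearMap.ext fun f => Subtype.ext (LinearMap.ext fun u => ?_)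
    change τ (s n) (f.1 (σ (s n)⁻¹ u)) = f.1 u
    rw [← f.2, ← mul_ap, mul_inv_cancel, map_one, Module.End.one_apply])

theorem hmRep_apply (g : E) (f : Hm s σ τ) (u : U) : (hmRep s σ τ (g : E ⧸ s.range) f).1 (σ g u) = τ g (f.1 u) := by
  change τ g (f.1 (σ g⁻¹ (σ g u))) = _
  rw [← mul_ap, inv_mul_cancel, map_one, Module.End.one_apply]

theorem exists_basis (h1 : Representation.IsIrreducible (σ.comp s)) (h2 : τ.IsIrreducible) (h3 : Hm s σ τ ≠ ⊥)
    {ι κ : Type} [Fintype ι] [Fintype κ] (u : Basis ι K U) (f : Basis κ K (Hm s σ τ)) :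
    ∃ b : Basis (ι × κ) K W, ∀ i, b i = (f i.2).1 (u i.1) := by
  classical
  have k1 : LinearIndependent K fun i : ι × κ => (f i.2).1 (u i.1) := by
    rw [Fintype.linearIndependent_iff]
    rintro c hc ⟨i, l⟩
    refine Fintype.linearIndependent_iff.1 f.linearIndependent (fun l => c (i, l)) (Subtype.ext (LinearMap.ext fun v => ?_)) l
    obtain ⟨t, ht⟩ := H662.KeyAbs.exists_asAlgebraHom_eq (σ.comp s) h1 ((u.coord i).smulRight v)
    have h4 := congrArg (Representation.asAlgebraHom (τ.comp s) t) hc
    rw [map_zero, map_sum, Fintype.sum_prod_type, Finset.sum_eq_single i] at h4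
    · rw [Submodule.coe_sum, LinearMap.sum_apply, Submodule.coe_zero, LinearMap.zero_apply, ← h4]
      refine Finset.sum_congr rfl fun l _ => ?_
      rw [map_smul, ← map_alg (τ := σ.comp s) (σ := τ.comp s) (f l).2, ht]
      simp
    · intro j _ hj
      refine Finset.sum_eq_zero fun l _ => ?_
      rw [map_smul, ← map_alg (τ := σ.comp s) (σ := τ.comp s) (f l).2, ht]
      simp [Finsupp.single_eq_of_ne hj.symm]
    · exact fun h => absurd (Finset.mem_univ _) h
  have k2 : ∀ (g : Hm s σ τ) (v : U), g.1 v ∈ Submodule.span K (Set.range fun i : ι × κ => (f i.2).1 (u i.1)) := fun g v => by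
    rw [← f.sum_repr g, ← u.sum_repr v, Submodule.coe_sum, LinearMap.sum_apply]
    refine Submodule.sum_mem _ fun l _ => ?_
    rw [Submodule.coe_smul, LinearMap.smul_apply, map_sum]
    refine Submodule.smul_mem _ _ (Submodule.sum_mem _ fun i _ => ?_)
    rw [map_smul]
    exact Submodule.smul_mem _ _ (Submodule.subset_span ⟨(i, l), rfl⟩)
  have k3 : Submodule.span K (Set.range fun i : ι × κ => (f i.2).1 (u i.1)) = ⊤ := by
    refine (irr_sub h2 _ fun g w hw => ?_).resolve_left fun e => h3 ((Submodule.eq_bot_iff _).2 fun g hg => ?_)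
    · induction hw using Submodule.span_induction with
      | mem x hx =>
        obtain ⟨i, rfl⟩ := hx
        rw [← hmRep_apply]
        exact k2 _ _
      | zero => rw [map_zero]; exact zero_mem _
      | add x y _ _ hx hy => rw [map_add]; exact add_mem hx hy
      | smul c x _ hx => rw [map_smul]; exact Submodule.smul_mem _ _ hx
    · refine LinearMap.ext fun v => ?_
      have h4 := k2 ⟨g, hg⟩ v
      rwa [e, Submodule.mem_bot] at h4
  exact ⟨Basis.mk k1 k3.ge, fun i => Basis.mk_apply _ _ i⟩

omit hs in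
theorem exists_trace (h1 : Representation.IsIrreducible (σ.comp s)) (y : E) :
    ∃ n, LinearMap.trace K U (σ (y * s n)) ≠ 0 := by
  by_contra hc
  push Not at hc
  have h2 : ∀ t : MonoidAlgebra K N, LinearMap.trace K U (σ y * Representation.asAlgebraHom (σ.comp s) t) = 0 := fun t => by
    induction t using MonoidAlgebra.induction_linear with
    | zero => simp
    | add a b ha hb => rw [map_add, mul_add, map_add, ha, hb, add_zero]
    | single n c =>
      rw [Representation.asAlgebraHom_single, mul_smul_comm, map_smul, MonoidHom.comp_apply, ← map_mul, hc, smul_zero]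
  have := irr_nontrivial h1
  obtain ⟨v, hv⟩ := exists_ne (0 : U)
  obtain ⟨l, hl⟩ := Module.Projective.exists_dual_eq_one K hv
  obtain ⟨t, ht⟩ := H662.KeyAbs.exists_asAlgebraHom_eq (σ.comp s) h1 (σ y⁻¹ * l.smulRight v)
  have h3 := h2 t
  rw [ht, ← mul_assoc, ← map_mul, mul_inv_cancel, map_one, one_mul, LinearMap.trace_smulRight, hl] at h3
  exact one_ne_zero h3

end lin

variable {V : ValuationSubring ℂ} {p : ℕ} [Fact p.Prime] [CharP (ResidueField V) p]

theorem bc_eigen {G W ι : Type} [Group G] [AddCommGroup W] [Module (ResidueField V) W]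
    [FiniteDimensional (ResidueField V) W] [Fintype ι] (σ : Representation (ResidueField V) G W) {g : G}
    (b : Basis ι (ResidueField V) W) {μ : ι → ResidueField V} (h : ∀ i, σ g (b i) = μ i • b i) :
    bc p σ g = ∑ i, lift p (μ i) := by
  classical
  have h1 := H227.ThB.roots_pow_of_eigen b h 1
  simp only [pow_one] at h1
  unfold bc
  rw [h1, Multiset.map_map]
  rfl

theorem exists_eig {G W : Type} [Group G] [AddCommGroup W] [Module (ResidueField V) W]
    [FiniteDimensional (ResidueField V) W] (σ : Representation (ResidueField V) G W) {g : G} (hg : IsPRegular p g) :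
    ∃ (b : Basis (Fin (finrank (ResidueField V) W)) (ResidueField V) W) (μ : Fin (finrank (ResidueField V) W) → ResidueField V),
      (∀ i, σ g (b i) = μ i • b i) ∧ ∀ i, IsRU p (μ i) := by
  obtain ⟨b, μ, h1, h2⟩ := H227.ThB.exists_eigen (σ g) (n := orderOf g)
    (fun h => hg ((CharP.cast_eq_zero_iff _ p _).1 h)) (by rw [← map_pow, pow_orderOf_eq_one, map_one])
  exact ⟨b, μ, h1, fun i => ⟨_, hg, h2 i⟩⟩

/-- a module whose Brauer character is a multiple of `phi p j` contains `j` -/
theorem exists_hom {N W : Type} [Group N] [Finite N] [AddCommGroup W] [Module (ResidueField V) W]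
    [FiniteDimensional (ResidueField V) W] [Nontrivial W] (σ : Representation (ResidueField V) N W) {j : IBr V N} {c : ℂ}
    (h : ∀ n, IsPRegular p n → bc p σ n = c * phi p j n) :
    ∃ f : (Fin j.deg → ResidueField V) →ₗ[ResidueField V] W, Function.Injective f ∧ ∀ n u, f (j.rep n u) = σ n (f u) := by
  classical
  obtain ⟨d, τ, f, h1, h2, h3⟩ := exists_irr_sub σ
  let i : IBr V N := ⟨fun g => LinearMap.trace (ResidueField V) _ (τ g), d, τ, h1, fun g => rfl⟩
  have hA : ∀ n, LinearMap.range f ≤ (LinearMap.range f).comap (σ n) := by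
    rintro n _ ⟨u, rfl⟩
    exact ⟨τ n u, h3 n u⟩
  obtain ⟨m, idx, h4⟩ := exists_sum_bc (p := p) (σ.quotient _ hA)
  have h5 : phi p i + ∑ l, phi p (idx l) = c • phi p j := by
    funext n
    rw [Pi.add_apply, Finset.sum_apply, Pi.smul_apply, smul_eq_mul]
    by_cases hn : IsPRegular p n
    · rw [← h n hn, ← h4 n hn, phi_eq_bc i τ h1 (fun _ => rfl) hn,
        bc_equiv p τ (σ.subrepresentation _ hA) (LinearEquiv.ofInjective f h2) (fun g w => Subtype.ext (h3 g w)) n]
      unfold bc
      rw [charpoly_sub (σ n) _ (hA n), roots_mul (mul_ne_zero (LinearMap.charpoly_monic _).ne_zero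
        (LinearMap.charpoly_monic _).ne_zero), Multiset.map_add, Multiset.sum_add]
      rfl
    · simp only [phi_of_not _ hn, Finset.sum_const_zero, add_zero, mul_zero]
  have h6 : j = i := by_contra fun hne => by
    have h7 := linearIndependent_iff.1 (linearIndependent_phi (V := V) (G := N) (p := p))
      (Finsupp.single i 1 + ∑ l, Finsupp.single (idx l) 1 - Finsupp.single j c) (by
        simp only [map_sub, map_add, map_sum, Finsupp.linearCombination_single, one_smul, h5, sub_self])
    have h8 := DFunLike.congr_fun h7 i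
    rw [Finsupp.sub_apply, Finsupp.add_apply, Finsupp.finsetSum_apply, Finsupp.single_eq_same,
      Finsupp.single_eq_of_ne' hne, sub_zero, Finsupp.zero_apply] at h8
    simp only [Finsupp.single_apply, Finset.sum_boole] at h8
    rw [add_comm] at h8
    exact Nat.cast_add_one_ne_zero _ h8
  obtain ⟨e, he⟩ := equiv_of_trace j.rep τ j.rep_irr h1 fun g => by rw [j.trace_rep, h6]
  exact ⟨f ∘ₗ e.toLinearMap, h2.comp e.injective, fun n u => by
    rw [LinearMap.comp_apply, LinearMap.comp_apply, LinearEquiv.coe_coe, he, h3]⟩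

theorem eq_of_part {G : Type} [Group G] {u x : G} (h : Commute u x) {k : ℕ} (hu : u ^ p ^ k = 1) (hx : IsPRegular p x)
    (hux : IsPRegular p (u * x)) : u = 1 := by
  have hp : p.Prime := Fact.out
  have h1 : u ^ (orderOf (u * x) * orderOf x) = 1 := by
    have h2 : (u * x) ^ (orderOf (u * x) * orderOf x) = 1 := by rw [pow_mul, pow_orderOf_eq_one, one_pow]
    rwa [h.mul_pow, mul_comm (orderOf (u * x)), pow_mul x, pow_orderOf_eq_one, one_pow, mul_one, mul_comm] at h2
  have h3 : Nat.Coprime (p ^ k) (orderOf (u * x) * orderOf x) :=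
    Nat.Coprime.pow_left _ (hp.coprime_iff_not_dvd.2 fun h4 => (hp.dvd_mul.1 h4).elim hux hx)
  exact orderOf_eq_one_iff.1 (Nat.eq_one_of_dvd_coprimes h3 (orderOf_dvd_of_pow_eq_one hu) (orderOf_dvd_of_pow_eq_one h1))

end Gal

open Gal

/-- **Gallagher's theorem for Brauer characters** -/
theorem boxGal : BoxGal := by
  intro p M V hM hV N E _ _ _ s _ hs k j hk
  have : Fact p.Prime := ⟨hM.1⟩
  have : CharP (ResidueField V) p := hV.charP hM
  have : Finite N := Finite.of_injective s hs
  have hreg : ∀ n, IsPRegular p n → IsPRegular p (s n) := fun n hn => by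
    unfold IsPRegular
    rwa [orderOf_injective s hs]
  have key : ∀ (a : IBr V E) (c : ℂ), (∀ n, phi p a (s n) = c * phi p j n) →
      ∃ f : (Fin j.deg → ResidueField V) →ₗ[ResidueField V] (Fin a.deg → ResidueField V), Function.Injective f ∧
        ∀ n u, f (j.rep n u) = a.rep (s n) (f u) := fun a c h => by
    have := irr_nontrivial a.rep_irr
    exact exists_hom (p := p) (a.rep.comp s) fun n hn => (phi_of a (hreg n hn)).symm.trans (h n)
  obtain ⟨f, hf, hfi⟩ := key k 1 fun n => by rw [hk, one_mul]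
  have hd : j.deg = k.deg := by
    have h1 := hk 1
    rw [map_one, phi_one, phi_one] at h1
    exact_mod_cast h1.symm
  let e := LinearMap.linearEquivOfInjective f hf (by rw [finrank_fin_fun, finrank_fin_fun, hd])
  have he : ∀ n u, e (j.rep n u) = k.rep (s n) (e u) := hfi
  have hirr : Representation.IsIrreducible (k.rep.comp s) :=
    Factors.isIrreducible_of_equiv (Representation.Equiv.mk e fun n => LinearMap.ext (he n)) j.rep_irr
  refine ⟨fun h hh => ?_, ?_⟩
  · obtain ⟨y, rfl⟩ := QuotientGroup.mk_surjective h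
    obtain ⟨n, hn⟩ := exists_trace s k.rep hirr y
    obtain ⟨u, x, h1, h2, ⟨t, h3⟩, h4⟩ := Blocks.PPart.exists_isPPart p (y * s n)
    have h5 : u ^ p ^ t = 1 := by rw [← h3, pow_orderOf_eq_one]
    have h6 : ((u : E ⧸ s.range) * x) = y := by
      rw [← QuotientGroup.mk_mul, h1]
      exact QuotientGroup.mk_mul_of_mem y ⟨n, rfl⟩
    have h7 : (u : E ⧸ s.range) = 1 := eq_of_part (p := p) (k := t) (x := (x : E ⧸ s.range))
      (h2.map (QuotientGroup.mk' s.range)) (by rw [← QuotientGroup.mk_pow, h5, QuotientGroup.mk_one])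
      (fun h8 => h4 (h8.trans (orderOf_map_dvd (QuotientGroup.mk' s.range) x))) (h6 ▸ hh)
    refine ⟨x, h4, by rw [← h6, h7, one_mul], fun h8 => hn ?_⟩
    obtain ⟨z, h9, h10⟩ := phi_spec (p := p) k h4
    rw [k.trace_rep, ← h1, ibr_apply_pPart k h2 h5, ← h10, show z = 0 from Subtype.ext (h9.symm.trans h8), map_zero]
  · rintro a ⟨c, hc⟩
    obtain ⟨g, hg, hgi⟩ := key a c hc
    have h1 : Hm s k.rep a.rep ≠ ⊥ := fun h2 => by
      have h3 : g ∘ₗ e.symm.toLinearMap ∈ Hm s k.rep a.rep := fun n u => by
        obtain ⟨u, rfl⟩ := e.surjective u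
        simp only [← he, LinearMap.comp_apply, LinearEquiv.coe_coe, LinearEquiv.symm_apply_apply, hgi]
      rw [h2, Submodule.mem_bot] at h3
      have := irr_nontrivial j.rep_irr
      obtain ⟨v, hv⟩ := exists_ne (0 : Fin j.deg → ResidueField V)
      have h4 := LinearMap.congr_fun h3 (e v)
      simp only [LinearMap.comp_apply, LinearEquiv.coe_coe, LinearEquiv.symm_apply_apply, LinearMap.zero_apply] at h4
      exact hv (hg (h4.trans (map_zero g).symm))
    obtain ⟨m, idx, h2⟩ := exists_sum_bc (V := V) (G := E ⧸ s.range) (p := p) (W := Hm s k.rep a.rep) (hmRep s k.rep a.rep)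
    refine ⟨m, idx, fun x hx => ?_⟩
    have hx' : IsPRegular p (x : E ⧸ s.range) := fun h3 => hx (h3.trans (orderOf_map_dvd (QuotientGroup.mk' s.range) x))
    obtain ⟨u, μ, h3, h4⟩ := exists_eig k.rep hx
    obtain ⟨w, ν, h5, h6⟩ := exists_eig (V := V) (G := E ⧸ s.range) (W := Hm s k.rep a.rep) (hmRep s k.rep a.rep) hx'
    obtain ⟨b, hb⟩ := exists_basis s k.rep a.rep hirr a.rep_irr h1 u w
    have h7 : ∀ i, a.rep x (b i) = (μ i.1 * ν i.2) • b i := fun i => by
      rw [hb, ← hmRep_apply, h5, h3, Submodule.coe_smul, LinearMap.smul_apply, map_smul, smul_smul, mul_comm]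
    rw [← h2 _ hx', phi_of a hx, phi_of k hx, bc_eigen _ b h7, bc_eigen _ u h3, bc_eigen _ w h5, Fintype.sum_prod_type,
      Finset.sum_mul_sum]
    exact Finset.sum_congr rfl fun i _ => Finset.sum_congr rfl fun l _ => lift_mul (h4 i) (h6 l)

end Cfsg.Agent.OM
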