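import Cfsg.Agent.OM.Defs
import Mathlib.GroupTheory.SemidirectProduct
import Mathlib.GroupTheory.Nilpotent

/-!
# OM (S4894): from overgroups to automorphisms (helper54)
-/

set_option autoImplicit false

namespace Cfsg.Agent.OM

open Cfsg Subgroup Cfsg.Agent.Characters.Core SemidirectProduct

namespace XO

/-- products of `p`-elements in a central extension of a `p`-group -/
theorem pmul {p : ℕ} [Fact p.Prime] {C S : Type} [Group C] [Finite C] [Group S] [Finite S] (f : C →* S)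
    (hf : f.ker ≤ center C) (hS : IsPGroup p S) {a b : C} (ha : ∃ k, a ^ p ^ k = 1) (hb : ∃ k, b ^ p ^ k = 1) :
    ∃ k, (a * b) ^ p ^ k = 1 := by
  have := hS.isNilpotent
  have := Subgroup.isNilpotent_of_ker_le_center f hf
  obtain ⟨P⟩ : Nonempty (Sylow p C) := inferInstance
  have := P.unique_of_normal inferInstance
  have h : ∀ c : C, (∃ k, c ^ p ^ k = 1) → c ∈ P := by
    rintro c ⟨k, hk⟩
    obtain ⟨Q, hQ⟩ := IsPGroup.exists_le_sylow (P := zpowers c) (p := p) fun g => ⟨k, Subtype.ext (by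
      obtain ⟨_, n, rfl⟩ := g
      show (c ^ n) ^ p ^ k = 1
      rw [← zpow_natCast, ← zpow_mul, mul_comm, zpow_mul, zpow_natCast, hk, one_zpow])⟩
    exact Subsingleton.elim Q P ▸ hQ (mem_zpowers c)
  obtain ⟨k, hk⟩ := P.isPGroup' ⟨a * b, mul_mem (h a ha) (h b hb)⟩
  exact ⟨k, congrArg Subtype.val hk⟩

variable {X : Type} [Group X] (S : Subgroup (MulAut X))

/-- the action on `X` -/
def act : X ⋊[S.subtype] S →* MulAut X := lift MulAut.conj S.subtype fun g => by
  ext x y
  simp [mul_assoc]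

variable {S}

theorem act_eq (g : X ⋊[S.subtype] S) : act S g = MulAut.conj g.left * g.right := rfl

theorem conj_inl (g : X ⋊[S.subtype] S) (x : X) : g * inl x * g⁻¹ = inl (act S g x) := by
  conv_lhs => rw [← inl_left_mul_inr_right g]
  rw [act_eq, MulAut.mul_apply, MulAut.conj_apply, map_mul, map_mul, map_inv, mul_inv_rev, ← map_inv inr]
  simp only [mul_assoc]
  rw [← mul_assoc (inr _), ← mul_assoc (inr _ * _), ← inl_aut]
  rfl

theorem cen_of {z : X} (h : act S (inl z) = 1) : z ∈ center X := mem_center_iff.2 fun x => by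
  have h1 := conj_inl (S := S) (inl z) x
  rw [h, ← map_inv, ← map_mul, ← map_mul, inl_inj, MulAut.one_apply, mul_inv_eq_iff_eq_mul] at h1
  exact h1.symm

variable {p : ℕ} [Fact p.Prime] [Finite X] (hS : IsPGroup p S)

theorem fin : Finite (X ⋊[S.subtype] S) := Finite.of_equiv _ equivProd.symm

/-- the `p`-elements of the centralizer of `X` -/
def Dl : Subgroup (X ⋊[S.subtype] S) where
  carrier := {g | act S g = 1 ∧ ∃ k, g ^ p ^ k = 1}
  one_mem' := ⟨map_one _, 0, one_pow _⟩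
  inv_mem' := fun ⟨h, k, hk⟩ => ⟨by rw [map_inv, h, inv_one], k, by rw [inv_pow, hk, inv_one]⟩
  mul_mem' := fun {a b} ⟨h, k, hk⟩ ⟨h', k', hk'⟩ => by
    have := fin (S := S)
    obtain ⟨n, hn⟩ := pmul (rightHom.comp (act S).ker.subtype) (fun c hc => mem_center_iff.2 fun g => Subtype.ext (by
      obtain ⟨z, hz⟩ : (c : X ⋊[S.subtype] S) ∈ (inl : X →* X ⋊[S.subtype] S).range := by
        rw [range_inl_eq_ker_rightHom]
        exact hc
      have h1 := conj_inl g.1 z
      rw [show act S g.1 = 1 from g.2, MulAut.one_apply, hz, mul_inv_eq_iff_eq_mul] at h1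
      exact h1)) hS (a := ⟨a, h⟩) (b := ⟨b, h'⟩) ⟨k, Subtype.ext hk⟩ ⟨k', Subtype.ext hk'⟩
    exact ⟨by rw [map_mul, h, h', one_mul], n, congrArg Subtype.val hn⟩

theorem normal : (Dl hS).Normal := ⟨fun _ ⟨h, k, hk⟩ g =>
  ⟨by rw [map_mul, map_mul, h, mul_one, ← map_mul, mul_inv_cancel, map_one], k, by rw [conj_pow, hk, mul_one, mul_inv_cancel]⟩⟩

omit [Finite X] [Fact p.Prime] in
include hS in
theorem pow_inl (g : X ⋊[S.subtype] S) : ∃ k z, inl z = g ^ p ^ k := by
  obtain ⟨k, hk⟩ := hS g.right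
  refine ⟨k, ?_⟩
  show _ ∈ inl.range
  rw [range_inl_eq_ker_rightHom, MonoidHom.mem_ker, map_pow]
  exact hk

end XO

open XO in
/-- **from overgroups to automorphisms** -/
theorem boxExtO : BoxExtO := by
  intro p hp X _ _ hZ Γ hΓ θ hθ h S hSΓ hS hfix
  have := Fact.mk hp
  have := fin (S := S)
  have := normal hS
  have hc : (Nat.card (center X)).Coprime p := ((Nat.Prime.coprime_iff_not_dvd hp).2 hZ).symm
  let e : X →* (X ⋊[S.subtype] S) ⧸ Dl hS := (QuotientGroup.mk' _).comp inl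
  have he : Function.Injective e := (injective_iff_map_eq_one e).2 fun z hz => by
    obtain ⟨h1, k, hk⟩ := (QuotientGroup.eq_one_iff (N := Dl hS) _).1 hz
    rw [← map_pow, ← map_one inl, inl_inj] at hk
    exact orderOf_eq_one_iff.1 (Nat.eq_one_of_dvd_coprimes (hc.pow_right k) (orderOf_dvd_natCard _ (cen_of h1))
      (orderOf_dvd_of_pow_eq_one hk))
  have h1 : ∀ (g : X ⋊[S.subtype] S) (x : X), QuotientGroup.mk' (Dl hS) g * e x * (QuotientGroup.mk' (Dl hS) g)⁻¹ =
      e (act S g x) := fun g x => by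
    show _ * QuotientGroup.mk' (Dl hS) (inl x) * _ = QuotientGroup.mk' (Dl hS) (inl _)
    rw [← map_inv, ← map_mul, ← map_mul, conj_inl]
  have h2 : ∀ g : X ⋊[S.subtype] S, ∀ k z, inl z = g ^ p ^ k → QuotientGroup.mk' (Dl hS) g ^ p ^ k ∈ e.range :=
    fun g k z hz => ⟨z, by rw [← map_pow, ← hz]; rfl⟩
  obtain ⟨Ψ, h3, h4⟩ := h _ e he (fun y => by
      obtain ⟨g, rfl⟩ := QuotientGroup.mk'_surjective _ y
      refine ⟨act S g, mul_mem (hΓ _) (hSΓ g.right.2), fun x => ?_, h1 g⟩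
      exact (isCharacter_isClassFunction (isIrr_isCharacter hθ) _ _).trans (hfix _ g.right.2 x))
    (fun y => by
      obtain ⟨g, rfl⟩ := QuotientGroup.mk'_surjective _ y
      obtain ⟨k, z, hz⟩ := pow_inl hS g
      exact ⟨k, h2 g k z hz⟩)
    (fun y hy => by
      obtain ⟨g, rfl⟩ := QuotientGroup.mk'_surjective _ y
      have h3 : act S g = 1 := MulEquiv.ext fun x => he (by rw [← h1, hy, mul_inv_cancel_right]; rfl)
      obtain ⟨k, z, hz⟩ := pow_inl hS g
      have h4 : z ^ Nat.card (center X) = 1 := orderOf_dvd_iff_pow_eq_one.1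
        (orderOf_dvd_natCard _ (cen_of (S := S) (by rw [hz, map_pow, h3, one_pow])))
      have h5 : QuotientGroup.mk' (Dl hS) g ^ Nat.card (center X) = 1 := by
        rw [← map_pow]
        refine (QuotientGroup.eq_one_iff _).2 ⟨by rw [map_pow, h3, one_pow], k, ?_⟩
        rw [← pow_mul, mul_comm, pow_mul, ← hz, ← map_pow, h4, map_one]
      obtain ⟨m, hm⟩ := exists_pow_eq_self_of_coprime (x := QuotientGroup.mk' (Dl hS) g) (n := p ^ k)
        ((hc.pow_right k).symm.coprime_dvd_right (orderOf_dvd_of_pow_eq_one h5))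
      exact hm ▸ pow_mem (h2 g k z hz) m)
  refine ⟨_, _, e, (QuotientGroup.mk' _).comp inr, Ψ, h3, h4, fun α x => ?_, fun y hy ⟨k, hk⟩ => ?_⟩
  · refine mul_inv_eq_iff_eq_mul.1 ((h1 (inr α) x).trans ?_)
    rw [act, lift_inr]
    rfl
  · refine ((QuotientGroup.eq (s := Dl hS)).2 (And.intro ?_ ⟨k, ?_⟩)).symm
    · rw [map_mul, map_inv, act, lift_inl, lift_inr]
      exact inv_mul_cancel _
    · have h5 : Commute (inl y : X ⋊[S.subtype] S)⁻¹ (inr ⟨_, hy⟩) := by
        refine Commute.inv_left (mul_inv_eq_iff_eq_mul.1 ((conj_inl (inr ⟨_, hy⟩) y).trans ?_)).symm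
        rw [act, lift_inr]
        exact congrArg _ (mul_inv_cancel_right y y)
      rw [h5.mul_pow, inv_pow, ← map_pow, hk, map_one, inv_one, one_mul, ← map_pow, ← map_one inr]
      exact congrArg _ (Subtype.ext (show MulAut.conj y ^ p ^ k = 1 by rw [← map_pow, hk, map_one]))

end Cfsg.Agent.OM
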