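import Cfsg.Agent.OM.Defs
import Cfsg.Agent.H699.EqDeg
import Cfsg.Agent.H112.Clif.Core
import Cfsg.Agent.S0188

/-!
# OM (S4894): Brauer character tools (helper8)
-/

set_option autoImplicit false
set_option linter.unusedSectionVars false

namespace Cfsg.Agent.OM

open Cfsg Subgroup IsLocalRing Cfsg.Agent.H657 Cfsg.Agent.H608.BlockRank Cfsg.Agent.H699.IBrLift
  Cfsg.Agent.Characters.Core

universe u v

variable {p : ℕ} {M : Ideal AlgInt} {V : ValuationSubring ℂ}

section reg

variable {G : Type u} [Group G] {D : Type v} [Group D]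

theorem reg_one (hp : p.Prime) : IsPRegular p (1 : G) := by
  unfold IsPRegular
  rw [orderOf_one]
  exact hp.not_dvd_one

theorem reg_map (f : D →* G) {d : D} (h : IsPRegular p d) : IsPRegular p (f d) :=
  fun h1 => h (h1.trans (orderOf_map_dvd f d))

theorem reg_map_iff (f : D →* G) (hf : Function.Injective f) {d : D} : IsPRegular p (f d) ↔ IsPRegular p d := by
  unfold IsPRegular
  rw [orderOf_injective f hf]

/-- `p`-regular elements lift along surjections of finite groups -/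
theorem exists_reg_lift [Finite D] (hp : p.Prime) (f : D →* G) (hf : Function.Surjective f) {g : G}
    (hg : IsPRegular p g) : ∃ d, IsPRegular p d ∧ f d = g := by
  obtain ⟨d, rfl⟩ := hf g
  have h0 : orderOf d ≠ 0 := (orderOf_pos d).ne'
  obtain ⟨a, m, hm, e⟩ := Nat.exists_eq_pow_mul_and_not_dvd h0 p hp.ne_one
  have hc : (p ^ a).Coprime (orderOf (f d)) := ((hp.coprime_iff_not_dvd).2 hg).pow_left a
  obtain ⟨k, hk1, hk2⟩ := Nat.chineseRemainder hc 0 1
  refine ⟨d ^ k, fun h => hm (h.trans (orderOf_dvd_of_pow_eq_one ?_)), ?_⟩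
  · obtain ⟨c, rfl⟩ := Nat.modEq_zero_iff_dvd.1 hk1
    rw [← pow_mul, mul_right_comm, ← e, pow_mul, pow_orderOf_eq_one, one_pow]
  · rw [map_pow, pow_eq_pow_of_modEq hk2 (pow_orderOf_eq_one _), pow_one]

end reg

section span

variable {G : Type u} [Group G]

variable (p) in
/-- the restriction to the `p`-regular elements is a combination of the Brauer characters in `A` -/
def InS (A : Set (IBr V G)) (f : G → ℂ) : Prop := pReg p f ∈ Submodule.span ℂ (phi p '' A)

variable {A A' : Set (IBr V G)} {f g : G → ℂ}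

theorem pReg_congr (h : ∀ x, IsPRegular p x → f x = g x) : pReg p f = pReg p g := by
  funext x
  by_cases hx : IsPRegular p x
  · rw [pReg_of hx, pReg_of hx, h x hx]
  · rw [pReg_of_not hx, pReg_of_not hx]

theorem InS.congr (hf : InS p A f) (h : ∀ x, IsPRegular p x → g x = f x) : InS p A g := by
  unfold InS
  rw [pReg_congr h]
  exact hf

theorem InS.mono (hf : InS p A f) (h : A ⊆ A') : InS p A' f :=
  Submodule.span_mono (Set.image_mono h) hf

theorem InS.add (hf : InS p A f) (hg : InS p A g) : InS p A fun x => f x + g x := by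
  have h := Submodule.add_mem _ hf hg
  rwa [← map_add] at h

theorem InS.sub (hf : InS p A f) (hg : InS p A g) : InS p A fun x => f x - g x := by
  have h := Submodule.sub_mem _ hf hg
  rwa [← map_sub] at h

theorem InS.mul (hf : InS p A f) (c : ℂ) : InS p A fun x => c * f x := by
  have h := Submodule.smul_mem _ c hf
  rwa [← map_smul] at h

theorem inS_zero : InS p A fun _ => 0 := by
  have h := Submodule.zero_mem (Submodule.span ℂ (phi p '' A))
  rwa [← map_zero (pReg p)] at h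

theorem inS_sum {ι : Type*} (s : Finset ι) {F : ι → G → ℂ} (h : ∀ l ∈ s, InS p A (F l)) :
    InS p A fun x => ∑ l ∈ s, F l x := by
  have h1 : (fun x => ∑ l ∈ s, F l x) = ∑ l ∈ s, F l := funext fun x => (Finset.sum_apply _ _ _).symm
  unfold InS
  rw [h1, map_sum]
  exact Submodule.sum_mem _ h

theorem pReg_phi' (i : IBr V G) : pReg p (phi p i) = phi p i := by
  funext g
  by_cases h : IsPRegular p g
  · rw [pReg_of h]
  · rw [pReg_of_not h, phi_of_not i h]

theorem inS_phi {i : IBr V G} (h : i ∈ A) : InS p A (phi p i) := by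
  unfold InS
  rw [pReg_phi']
  exact Submodule.subset_span ⟨i, h, rfl⟩

theorem inS_of_mul {j : IBr V G} (c : ℂ) (h : ∀ x, IsPRegular p x → f x = c * phi p j x) : InS p {j} f :=
  ((inS_phi (Set.mem_singleton j)).mul c).congr h

theorem inS_range {ι : Type*} [Fintype ι] (idx : ι → IBr V G) (c : ℂ)
    (h : ∀ x, IsPRegular p x → f x = c * ∑ l, phi p (idx l) x) : InS p (Set.range idx) f :=
  ((inS_sum Finset.univ (F := fun l => phi p (idx l)) fun l _ => inS_phi (Set.mem_range_self l)).mul c).congr h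

theorem inS_single {j : IBr V G} (hf : InS p {j} f) : ∃ c : ℂ, ∀ x, IsPRegular p x → f x = c * phi p j x := by
  unfold InS at hf
  rw [Set.image_singleton, Submodule.mem_span_singleton] at hf
  obtain ⟨c, hc⟩ := hf
  exact ⟨c, fun x hx => by rw [← pReg_of hx f, ← hc]; rfl⟩

variable [Finite G]

theorem phi_one_ne (hM : IsPModular p M) (hV : Above M V) (i : IBr V G) : phi p i 1 ≠ 0 := by
  have : Fact p.Prime := ⟨hM.1⟩
  have := hV.charP hM
  rw [phi_one]
  exact_mod_cast (deg_pos i).ne'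

/-- **separation** -/
theorem InS.sep (hM : IsPModular p M) (hV : Above M V) (hd : Disjoint A A') (hf : InS p A f) (hg : InS p A' f) (x : G)
    (hx : IsPRegular p x) : f x = 0 := by
  have : Fact p.Prime := ⟨hM.1⟩
  have := hV.charP hM
  have h1 := (linearIndependent_phi (V := V) (G := G) (p := p)).disjoint_span_image hd
  have h2 := (Submodule.disjoint_def.1 h1) _ hf hg
  rw [← pReg_of hx f, h2]
  rfl

/-- **the constituents of a sum** -/
theorem supp (hM : IsPModular p M) (hV : Above M V) {ι : Type*} [Fintype ι] {idx : ι → IBr V G}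
    (h : InS p A fun x => ∑ l, phi p (idx l) x) (l : ι) : idx l ∈ A := by
  classical
  by_contra hl
  have h1 : InS p {idx l}ᶜ fun x => ∑ k ∈ Finset.univ.filter (fun k => idx k = idx l), phi p (idx k) x := by
    refine ((h.mono (Set.subset_compl_singleton_iff.2 hl)).sub
      (inS_sum (Finset.univ.filter fun k => ¬ idx k = idx l) (F := fun k => phi p (idx k))
        fun k hk => inS_phi (Finset.mem_filter.1 hk).2)).congr fun x _ => ?_
    rw [eq_sub_iff_add_eq, Finset.sum_filter_add_sum_filter_not]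
  have h2 : InS p {idx l} fun x => ∑ k ∈ Finset.univ.filter (fun k => idx k = idx l), phi p (idx k) x :=
    inS_sum _ fun k hk => inS_phi (Finset.mem_filter.1 hk).2
  have h3 := h2.sep hM hV disjoint_compl_right h1 1 (reg_one hM.1)
  rw [Finset.sum_congr rfl (g := fun _ => phi p (idx l) 1) fun k hk => by rw [(Finset.mem_filter.1 hk).2],
    Finset.sum_const, nsmul_eq_mul, mul_eq_zero] at h3
  rcases h3 with h3 | h3
  · have h4 : l ∈ Finset.univ.filter (fun k => idx k = idx l) := Finset.mem_filter.2 ⟨Finset.mem_univ _, rfl⟩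
    exact Finset.card_ne_zero_of_mem h4 (Nat.cast_eq_zero.1 h3)
  · exact phi_one_ne hM hV _ h3

/-- an irreducible Brauer character is not a proper multiple or a proper sum -/
theorem one_of_phi (hM : IsPModular p M) (hV : Above M V) {ι : Type*} [Fintype ι] {idx : ι → IBr V G} {j : IBr V G}
    {c : ℕ} (h : ∀ x, IsPRegular p x → phi p j x = c * ∑ l, phi p (idx l) x) :
    c = 1 ∧ Fintype.card ι = 1 ∧ ∀ l, idx l = j := by
  have h0 := phi_one_ne hM hV j
  have h1 := h 1 (reg_one hM.1)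
  have hc : (c : ℂ) ≠ 0 := fun e => h0 (by rw [h1, e, zero_mul])
  have h4 : InS p {j} fun x => ∑ l, phi p (idx l) x := inS_of_mul (c : ℂ)⁻¹ fun x hx => by
    rw [h x hx, inv_mul_cancel_left₀ hc]
  have h2 : ∀ l, idx l = j := fun l => Set.mem_singleton_iff.1 (supp hM hV h4 l)
  rw [Finset.sum_congr rfl (g := fun _ => phi p j 1) fun l _ => by rw [h2 l], Finset.sum_const, Finset.card_univ,
    nsmul_eq_mul] at h1
  have h3 : c * Fintype.card ι = 1 := by
    rw [← mul_assoc] at h1
    exact_mod_cast (mul_eq_right₀ h0).1 h1.symm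
  exact ⟨Nat.eq_one_of_mul_eq_one_right h3, Nat.eq_one_of_mul_eq_one_left h3, h2⟩

theorem eq_of_prop_phi (hM : IsPModular p M) (hV : Above M V) {i j : IBr V G} {c : ℂ}
    (h : ∀ x, IsPRegular p x → phi p i x = c * phi p j x) : i = j := by
  have h4 : InS p {j} fun x => ∑ _l : Unit, phi p i x := inS_of_mul c fun x hx => by
    rw [Fintype.sum_unique, h x hx]
  exact Set.mem_singleton_iff.1 (supp hM hV (idx := fun _ : Unit => i) h4 ())

/-- the decomposition of a character -/
theorem exists_dec (hM : IsPModular p M) (hV : Above M V) (hf : IsCharacter G f) :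
    ∃ (m : ℕ) (idx : Fin m → IBr V G), ∀ x, IsPRegular p x → f x = ∑ l, phi p (idx l) x := by
  have : Fact p.Prime := ⟨hM.1⟩
  have := hV.charP hM
  have := Fintype.ofFinite G
  obtain ⟨N, ρ, rfl⟩ := hf
  obtain ⟨m, n, σ, hσ, hred⟩ := Reduce.exists_red V ρ
  let idx : Fin m → IBr V G := fun l => ⟨fun g => LinearMap.trace (ResidueField V) _ (σ l g),
    n l, σ l, hσ l, fun g => rfl⟩
  refine ⟨m, idx, fun g hg => ?_⟩
  have h2 : ρ.character g = LinearMap.trace ℂ _ (ρ g) := rfl
  rw [h2, character_eq_sum_bc ρ σ hred (p := p) (g := g) hg]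
  exact Finset.sum_congr rfl fun l _ => (phi_eq_bc (idx l) (σ l) (hσ l) (fun g => rfl) hg).symm

end span

section comp

variable {G : Type u} [Group G] {D : Type v} [Group D]

/-- the restriction of a Brauer character along a homomorphism -/
theorem exists_res (hM : IsPModular p M) (hV : Above M V) (f : D →* G) (i : IBr V G) :
    ∃ (m : ℕ) (idx : Fin m → IBr V D), m ≠ 0 ∧ ∀ d, IsPRegular p d → phi p i (f d) = ∑ l, phi p (idx l) d := by
  have : Fact p.Prime := ⟨hM.1⟩
  have := hV.charP hM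
  obtain ⟨m, idx, h⟩ := exists_sum_bc (p := p) (i.rep.comp f : Representation _ D _)
  have h1 : ∀ d, IsPRegular p d → phi p i (f d) = ∑ l, phi p (idx l) d := fun d hd => by
    rw [phi_of i (reg_map f hd), ← h d hd]
    rfl
  refine ⟨m, idx, ?_, h1⟩
  rintro rfl
  have h2 := h1 1 (reg_one hM.1)
  rw [map_one, phi_one, Fin.sum_univ_zero] at h2
  exact (deg_pos i).ne' (by exact_mod_cast h2)

theorem irr_comp (f : D →* G) (hf : Function.Surjective f) (i : IBr V G) :
    Representation.IsIrreducible (i.rep.comp f : Representation (ResidueField V) D (Fin i.deg → ResidueField V)) := by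
  have := H112.Clif.irr_nontrivial i.rep_irr
  refine H112.Clif.irr_of _ fun A hA => H112.Clif.irr_sub i.rep_irr A fun g w hw => ?_
  obtain ⟨d, rfl⟩ := hf g
  exact hA d w hw

/-- inflation -/
noncomputable def infl (f : D →* G) (hf : Function.Surjective f) (i : IBr V G) : IBr V D :=
  ⟨fun d => i.1 (f d), i.deg, (i.rep.comp f : Representation _ D _), irr_comp f hf i, fun d => i.trace_rep (f d)⟩

theorem phi_infl (f : D →* G) (hf : Function.Surjective f) (i : IBr V G) {d : D} (hd : IsPRegular p d) :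
    phi p (infl f hf i) d = phi p i (f d) := by
  rw [phi_of i (reg_map f hd), phi_eq_bc (infl f hf i) (i.rep.comp f : Representation _ D _) (irr_comp f hf i)
    (fun d => i.trace_rep (f d)) hd]
  rfl

theorem Lf.comp {χ : G → ℂ} (h : Lf p V χ) (f : D →* G) (hf : Function.Surjective f) : Lf p V fun d => χ (f d) := by
  obtain ⟨j, hj⟩ := h
  exact ⟨infl f hf j, fun d hd => (hj _ (reg_map f hd)).trans (phi_infl f hf j hd).symm⟩

theorem Lf.congr {χ ψ : G → ℂ} (h : Lf p V χ) (e : ∀ x, IsPRegular p x → ψ x = χ x) : Lf p V ψ := by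
  obtain ⟨j, hj⟩ := h
  exact ⟨j, fun x hx => (e x hx).trans (hj x hx)⟩

theorem lf_of_card {χ : G → ℂ} {ι : Type*} [Fintype ι] {idx : ι → IBr V G} (h1 : Fintype.card ι = 1)
    (h : ∀ x, IsPRegular p x → χ x = ∑ l, phi p (idx l) x) : Lf p V χ := by
  obtain ⟨l, hl⟩ := Fintype.card_eq_one_iff.1 h1
  exact ⟨idx l, fun x hx => by
    rw [h x hx, Finset.sum_eq_single l (fun k _ hk => absurd (hl k) hk) fun e => absurd (Finset.mem_univ l) e]⟩

theorem card_one_of_sigma {m : ℕ} {n : Fin m → ℕ} (hn : ∀ l, n l ≠ 0) (h : Fintype.card (Σ l, Fin (n l)) = 1) :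
    Fintype.card (Fin m) = 1 := by
  rw [Fintype.card_sigma] at h
  simp only [Fintype.card_fin] at h ⊢
  have h1 : ∑ _l : Fin m, 1 ≤ ∑ l, n l := Finset.sum_le_sum fun l _ => Nat.pos_of_ne_zero (hn l)
  rw [Finset.sum_const, Finset.card_univ, Fintype.card_fin, smul_eq_mul, mul_one, h] at h1
  rcases Nat.eq_zero_or_pos m with rfl | h2
  · simp at h
  · omega

variable [Finite G] [Finite D]

/-- a character with an irreducible restriction modulo `p` is irreducible modulo `p` -/
theorem Lf.of_res (hM : IsPModular p M) (hV : Above M V) {χ : G → ℂ} (hχ : IsCharacter G χ) (f : D →* G)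
    (h : Lf p V fun d => χ (f d)) : Lf p V χ := by
  obtain ⟨j, hj⟩ := h
  obtain ⟨m, idx, h1⟩ := exists_dec hM hV hχ
  choose n a hn ha using fun l => exists_res hM hV f (idx l)
  refine lf_of_card (card_one_of_sigma hn (one_of_phi hM hV (j := j) (c := 1)
    (idx := fun l : Σ l, Fin (n l) => a l.1 l.2) fun d hd => ?_).2.1) h1
  rw [← hj d hd, Nat.cast_one, one_mul, Fintype.sum_sigma]
  exact (h1 _ (reg_map f hd)).trans (Finset.sum_congr rfl fun l _ => ha l d hd)

variable (p) in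
/-- the Brauer characters whose restrictions lie over `A` -/
def OvS (f : D →* G) (A : Set (IBr V D)) : Set (IBr V G) := {i | InS p A fun d => phi p i (f d)}

theorem ovS_disjoint (hM : IsPModular p M) (hV : Above M V) (f : D →* G) {A A' : Set (IBr V D)} (h : Disjoint A A') :
    Disjoint (OvS p f A) (OvS p f A') := Set.disjoint_left.2 fun i h1 h2 =>
  phi_one_ne hM hV i (by
    have h3 := InS.sep hM hV h h1 h2 1 (reg_one hM.1)
    rwa [map_one] at h3)

theorem mem_ovS (hM : IsPModular p M) (hV : Above M V) (f : D →* G) {A : Set (IBr V D)} {ι : Type*} [Fintype ι]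
    {idx : ι → IBr V G} (h : InS p A fun d => ∑ l, phi p (idx l) (f d)) (l : ι) : idx l ∈ OvS p f A := by
  choose n a _ ha using fun l => exists_res hM hV f (idx l)
  have h1 := supp hM hV (idx := fun l : Σ l, Fin (n l) => a l.1 l.2) (h.congr fun d hd => by
    rw [Fintype.sum_sigma]
    exact Finset.sum_congr rfl fun l _ => (ha l d hd).symm)
  exact (inS_sum Finset.univ fun k _ => inS_phi (h1 ⟨l, k⟩)).congr (ha l)

theorem inS_ovS (hM : IsPModular p M) (hV : Above M V) {χ : G → ℂ} (hχ : IsCharacter G χ) (f : D →* G)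
    {A : Set (IBr V D)} (h : InS p A fun d => χ (f d)) : InS p (OvS p f A) χ := by
  obtain ⟨m, idx, h1⟩ := exists_dec hM hV hχ
  exact (inS_sum Finset.univ fun l _ => inS_phi (mem_ovS hM hV f
    (h.congr fun d hd => (h1 _ (reg_map f hd)).symm) l)).congr h1

end comp

section block

variable {G : Type u} [Group G] [Finite G] {B : Set (IrrCharacter G)}

theorem Lf.under (hM : IsPModular p M) (hV : Above M V) {χ : G → ℂ} (hχ : IsIrrCharacter G χ) {j : IBr V G}
    (hj : ∀ x, IsPRegular p x → χ x = phi p j x) : Under j χ := by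
  obtain ⟨m, idx, h1, h2⟩ := exists_decomp hM hV hχ
  obtain ⟨-, h3, h4⟩ := one_of_phi hM hV (j := j) (idx := idx) (c := 1) fun x hx => by
    rw [← hj x hx, h2 x hx, Nat.cast_one, one_mul]
  obtain ⟨l, -⟩ := Fintype.card_eq_one_iff.1 h3
  exact h4 l ▸ h1 l

/-- characters which are proportional on the `p`-regular elements lie in one block -/
theorem sameBlock_of_prop (hM : IsPModular p M) {χ ψ : G → ℂ} (hχ : IsIrrCharacter G χ) (hψ : IsIrrCharacter G ψ)
    (h : ∀ x, IsPRegular p x → χ x * ψ 1 = ψ x * χ 1) : SameBlock M χ ψ := by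
  obtain ⟨V, hV⟩ := exists_above hM
  obtain ⟨m, idx, h1, h2⟩ := exists_decomp hM hV hχ
  obtain ⟨m', idx', h1', h2'⟩ := exists_decomp hM hV hψ
  have h0 := isIrr_apply_one_ne_zero hψ
  have hm : m ≠ 0 := by
    rintro rfl
    exact isIrr_apply_one_ne_zero hχ (by rw [h2 1 (reg_one hM.1), Fin.sum_univ_zero])
  have h3 : InS p (Set.range idx') fun x => ∑ l, phi p (idx l) x := inS_range idx' (χ 1 / ψ 1) fun x hx => by
    rw [← h2 x hx, ← h2' x hx, div_mul_eq_mul_div, eq_div_iff h0, h x hx, mul_comm]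
  obtain ⟨l, hl⟩ := supp hM hV h3 ⟨0, Nat.pos_of_ne_zero hm⟩
  exact under_sameBlock hM hV hχ hψ (h1 _) (hl ▸ h1' l)

/-- if all Brauer characters of the block have one degree, a member of minimal degree is a lift -/
theorem lf_of_mn (hM : IsPModular p M) (hV : Above M V) (hB : IsPBlock M B)
    (hd : ∀ i ∈ ibrUnder V B, ∀ j ∈ ibrUnder V B, i.deg = j.deg) {χ : IrrCharacter G} (h : Mn B χ) :
    Lf p V (χ : G → ℂ) := by
  classical
  have : Fact p.Prime := ⟨hM.1⟩
  have := hV.charP hM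
  have := Blocks.Local.isPrime_of_isPModular hM
  have := finite_irr (G := G)
  have : Fintype (IrrCharacter G) := Fintype.ofFinite _
  obtain ⟨m, idx, h1, h2⟩ := exists_decomp hM hV χ.2
  refine lf_of_card ?_ h2
  have hr := reg_one (G := G) hM.1
  have hm : m ≠ 0 := by
    rintro rfl
    exact isIrr_apply_one_ne_zero χ.2 (by rw [h2 1 hr, Fin.sum_univ_zero])
  let l₀ : Fin m := ⟨0, Nat.pos_of_ne_zero hm⟩
  have hu : ∀ l, idx l ∈ ibrUnder V B := fun l => ⟨χ, h.1, h1 l⟩
  have h3 : charDegree (χ : G → ℂ) = m * (idx l₀).deg := by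
    have h4 := h2 1 hr
    rw [Blocks.Basic.irr_one_eq_charDegree χ.2, Finset.sum_congr rfl (g := fun _ => ((idx l₀).deg : ℂ)) fun l _ => by
      rw [phi_one, hd _ (hu l) _ (hu l₀)], Finset.sum_const, Finset.card_univ, Fintype.card_fin, nsmul_eq_mul] at h4
    exact_mod_cast h4
  obtain ⟨n, hn, h4⟩ := H699.EqDeg.exists_int_comb hM hV (isUnion_of_isPBlock hB) (hu l₀)
  have h5 := congrFun h4 1
  rw [phi_one, Finset.sum_apply] at h5
  have h6 : (((idx l₀).deg : ℤ) : ℂ) = ((∑ ψ : IrrCharacter G, n ψ * charDegree (ψ : G → ℂ) : ℤ) : ℂ) := by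
    rw [Int.cast_natCast, h5, Int.cast_sum]
    refine Finset.sum_congr rfl fun ψ _ => ?_
    rw [Pi.smul_apply, pReg_of hr, smul_eq_mul, Blocks.Basic.irr_one_eq_charDegree ψ.2, Int.cast_mul, Int.cast_natCast]
  have h7 : (charDegree (χ : G → ℂ) : ℤ) ∣ ((idx l₀).deg : ℤ) := by
    rw [Int.cast_injective h6]
    refine Finset.dvd_sum fun ψ _ => ?_
    by_cases hψ : ψ ∈ B
    · exact (Int.natCast_dvd_natCast.2 (h.2 ψ hψ)).mul_left _
    · rw [hn ψ hψ, zero_mul]
      exact dvd_zero _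
  have h8 := Nat.le_of_dvd (deg_pos _) (Int.natCast_dvd_natCast.1 h7)
  rw [h3] at h8
  rw [Fintype.card_fin]
  have h9 : m ≤ 1 := Nat.le_of_mul_le_mul_right (by rwa [one_mul]) (deg_pos (idx l₀))
  omega

/-- rank one: every member is a multiple of one Brauer character -/
theorem R1.exists_phi (hM : IsPModular p M) (hV : Above M V) (hB : IsPBlock M B) (h : R1 p B) :
    ∃ i : IBr V G, ibrUnder V B = {i} ∧
      ∀ χ ∈ B, ∃ m : ℕ, ∀ x, IsPRegular p x → (χ : G → ℂ) x = m * phi p i x := by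
  have : Fact p.Prime := ⟨hM.1⟩
  have := hV.charP hM
  have := Blocks.Local.isPrime_of_isPModular hM
  obtain ⟨χ, hχ⟩ : ∃ χ, χ ∈ B := by
    obtain ⟨χ, rfl⟩ := hB
    exact ⟨χ, Blocks.Basic.mem_blockOf_self χ⟩
  have h0 := isIrr_apply_one_ne_zero χ.2
  have h1 : ∀ i ∈ ibrUnder V B, ∃ c : ℂ, ∀ x, IsPRegular p x → phi p i x = c * (χ : G → ℂ) x := by
    intro i hi
    have h2 : phi p i ∈ (charSpan B).map (pReg p) := by
      rw [map_pReg_charSpan hM hV (isUnion_of_isPBlock hB)]
      exact Submodule.subset_span ⟨i, hi, rfl⟩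
    obtain ⟨f, hf, e⟩ := h2
    have h3 : ∃ c : ℂ, ∀ x, IsPRegular p x → f x = c * (χ : G → ℂ) x := by
      clear e
      induction hf using Submodule.span_induction with
      | mem f hf =>
        obtain ⟨ψ, hψ, rfl⟩ := hf
        exact ⟨(ψ : G → ℂ) 1 / (χ : G → ℂ) 1, fun x hx => by
          rw [div_mul_eq_mul_div, eq_div_iff h0, h ψ hψ χ hχ x hx, mul_comm]⟩
      | zero => exact ⟨0, fun x _ => (zero_mul _).symm⟩
      | add f g _ _ hf hg =>
        obtain ⟨a, ha⟩ := hf
        obtain ⟨b, hb⟩ := hg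
        exact ⟨a + b, fun x hx => by rw [Pi.add_apply, ha x hx, hb x hx, add_mul]⟩
      | smul a f _ hf =>
        obtain ⟨b, hb⟩ := hf
        exact ⟨a * b, fun x hx => by rw [Pi.smul_apply, hb x hx, smul_eq_mul, mul_assoc]⟩
    obtain ⟨c, hc⟩ := h3
    exact ⟨c, fun x hx => by rw [← e, pReg_of hx, hc x hx]⟩
  have h2 : ∀ i ∈ ibrUnder V B, ∀ j ∈ ibrUnder V B, i = j := by
    intro i hi j hj
    obtain ⟨a, ha⟩ := h1 i hi
    obtain ⟨b, hb⟩ := h1 j hj
    have hb0 : b ≠ 0 := fun e => phi_one_ne hM hV j (by rw [hb 1 (reg_one hM.1), e, zero_mul])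
    exact eq_of_prop_phi hM hV (c := a / b) fun x hx => by
      rw [ha x hx, hb x hx, div_mul_eq_mul_div, mul_left_comm, mul_div_cancel_left₀ _ hb0]
  obtain ⟨m, idx, h3, h4⟩ := exists_decomp hM hV χ.2
  have hm : m ≠ 0 := by
    rintro rfl
    exact h0 (by rw [h4 1 (reg_one hM.1), Fin.sum_univ_zero])
  have h5 : idx ⟨0, Nat.pos_of_ne_zero hm⟩ ∈ ibrUnder V B := ⟨χ, hχ, h3 _⟩
  refine ⟨_, Set.eq_singleton_iff_unique_mem.2 ⟨h5, fun j hj => h2 j hj _ h5⟩, fun ψ hψ => ?_⟩
  obtain ⟨m', idx', h6, h7⟩ := exists_decomp hM hV ψ.2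
  refine ⟨m', fun x hx => ?_⟩
  rw [h7 x hx, Finset.sum_congr rfl fun l _ => by rw [h2 _ ⟨ψ, hψ, h6 l⟩ _ h5], Finset.sum_const, Finset.card_univ,
    Fintype.card_fin, nsmul_eq_mul]

theorem R1.lf (hM : IsPModular p M) (hV : Above M V) (hB : IsPBlock M B) (h : R1 p B) {χ : IrrCharacter G}
    (hχ : Mn B χ) : Lf p V (χ : G → ℂ) := by
  obtain ⟨i, hi, -⟩ := h.exists_phi hM hV hB
  refine lf_of_mn hM hV hB (fun a ha b hb => ?_) hχ
  rw [hi] at ha hb
  rw [ha, hb]

theorem R1.mn (hM : IsPModular p M) (hV : Above M V) (hB : IsPBlock M B) (h : R1 p B) {χ : IrrCharacter G}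
    (hχ : χ ∈ B) (hl : Lf p V (χ : G → ℂ)) : Mn B χ := by
  obtain ⟨i, -, hi⟩ := h.exists_phi hM hV hB
  obtain ⟨j, hj⟩ := hl
  obtain ⟨m, hm⟩ := hi χ hχ
  obtain ⟨rfl, -, -⟩ := one_of_phi hM hV (j := j) (ι := Unit) (idx := fun _ => i) (c := m) fun x hx => by
    rw [← hj x hx, hm x hx, Fintype.sum_unique]
  refine ⟨hχ, fun ψ hψ => ?_⟩
  obtain ⟨n, hn⟩ := hi ψ hψ
  have h1 := hn 1 (reg_one hM.1)
  have h2 := hm 1 (reg_one hM.1)
  rw [Nat.cast_one, one_mul] at h2
  rw [← h2, Blocks.Basic.irr_one_eq_charDegree ψ.2, Blocks.Basic.irr_one_eq_charDegree χ.2] at h1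
  exact ⟨n, by rw [mul_comm]; exact_mod_cast h1⟩

end block

section gal

/-- products with an extension which is irreducible modulo `p` -/
theorem lf_mul (hG : BoxGal) (hM : IsPModular p M) (hV : Above M V) {N E : Type} [Group N] [Group E] [Finite E]
    (s : N →* E) [s.range.Normal] (hs : Function.Injective s) {ψ : E → ℂ} (hψ : IsCharacter E ψ)
    (hθ : Lf p V fun n => ψ (s n)) {ξ : E → ℂ} (hξ : IsCharacter E ξ) {η : E ⧸ s.range → ℂ} (hη : Lf p V η)
    (h : ∀ x : E, IsPRegular p x → ξ x = ψ x * η x) : Lf p V ξ := by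
  have : Finite N := Finite.of_injective s hs
  obtain ⟨k, hk⟩ := Lf.of_res hM hV hψ s hθ
  obtain ⟨j, hj⟩ := hθ
  obtain ⟨i, hi⟩ := hη
  have hkj : ∀ n, phi p k (s n) = phi p j n := fun n => by
    by_cases hn : IsPRegular p n
    · exact (hk _ (reg_map s hn)).symm.trans (hj n hn)
    · rw [phi_of_not _ hn, phi_of_not _ (mt (reg_map_iff s hs).1 hn)]
  obtain ⟨h1, h2⟩ := hG p M V hM hV N E s hs k j hkj
  obtain ⟨m, idx, h3⟩ := exists_dec hM hV hξ
  have h6 : InS p {j} fun n => ∑ l, phi p (idx l) (s n) := inS_of_mul (η 1) fun n hn => by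
    rw [← h3 _ (reg_map s hn), h _ (reg_map s hn), (QuotientGroup.eq_one_iff (N := s.range) (s n)).2 ⟨n, rfl⟩,
      ← hj n hn, mul_comm]
  have h4 : ∀ l, idx l ∈ OvS p s {j} := mem_ovS hM hV s h6
  choose n a ha using fun l => h2 (idx l) (by
    obtain ⟨c, hc⟩ := inS_single (h4 l)
    refine ⟨c, fun n => ?_⟩
    by_cases hn : IsPRegular p n
    · exact hc n hn
    · rw [phi_of_not _ hn, phi_of_not _ (mt (reg_map_iff s hs).1 hn), mul_zero])
  have hn : ∀ l, n l ≠ 0 := fun l e => phi_one_ne hM hV (idx l) (by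
    have : IsEmpty (Fin (n l)) := by rw [e]; infer_instance
    rw [ha l 1 (reg_one hM.1), Fintype.sum_empty, mul_zero])
  refine lf_of_card (card_one_of_sigma hn (one_of_phi hM hV (j := i) (c := 1)
    (idx := fun l : Σ l, Fin (n l) => a l.1 l.2) fun y hy => ?_).2.1) h3
  obtain ⟨x, hx, rfl, h5⟩ := h1 y hy
  refine mul_left_cancel₀ h5 ?_
  rw [← hi _ hy, ← hk x hx, ← h x hx, h3 x hx, Nat.cast_one, one_mul, Fintype.sum_sigma, Finset.mul_sum, hk x hx]
  exact Finset.sum_congr rfl fun l _ => ha l x hx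

/-- the cancellation law -/
theorem exists_reg_ne (hG : BoxGal) (hM : IsPModular p M) (hV : Above M V) {N E : Type} [Group N] [Group E] [Finite E]
    (s : N →* E) [s.range.Normal] (hs : Function.Injective s) {ψ : E → ℂ} (hψ : IsCharacter E ψ)
    (hθ : Lf p V fun n => ψ (s n)) (y : E ⧸ s.range) (hy : IsPRegular p y) :
    ∃ x : E, IsPRegular p x ∧ (x : E ⧸ s.range) = y ∧ ψ x ≠ 0 := by
  have : Finite N := Finite.of_injective s hs
  obtain ⟨k, hk⟩ := Lf.of_res hM hV hψ s hθ
  obtain ⟨j, hj⟩ := hθ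
  have hkj : ∀ n, phi p k (s n) = phi p j n := fun n => by
    by_cases hn : IsPRegular p n
    · exact (hk _ (reg_map s hn)).symm.trans (hj n hn)
    · rw [phi_of_not _ hn, phi_of_not _ (mt (reg_map_iff s hs).1 hn)]
  obtain ⟨x, h1, h2, h3⟩ := (hG p M V hM hV N E s hs k j hkj).1 y hy
  exact ⟨x, h1, h2, by rwa [hk x h1]⟩

/-- outer products -/
theorem lf_prod (hG : BoxGal) (hM : IsPModular p M) (hV : Above M V) {A B : Type} [Group A] [Group B] [Finite A]
    [Finite B] {χ : A → ℂ} {ψ : B → ℂ} (hχ : IsCharacter A χ) (hψ : IsCharacter B ψ) (h1 : Lf p V χ) (h2 : Lf p V ψ) :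
    Lf p V fun x : A × B => χ x.1 * ψ x.2 := by
  have hr : (MonoidHom.inl A B).range = (MonoidHom.snd A B).ker := by
    ext ⟨a, b⟩
    exact ⟨by rintro ⟨c, hc⟩; exact (congrArg Prod.snd hc).symm, fun h => ⟨a, Prod.ext rfl (Eq.symm h)⟩⟩
  have : (MonoidHom.inl A B).range.Normal := hr ▸ inferInstance
  let q : (A × B) ⧸ (MonoidHom.inl A B).range →* B := QuotientGroup.lift _ (MonoidHom.snd A B) hr.le
  have hc1 : IsCharacter (A × B) fun x => χ x.1 := by
    obtain ⟨n, ρ, rfl⟩ := hχ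
    exact ⟨n, ρ.comp (MonoidHom.fst A B), rfl⟩
  have hc2 : IsCharacter (A × B) fun x => ψ x.2 := by
    obtain ⟨n, ρ, rfl⟩ := hψ
    exact ⟨n, ρ.comp (MonoidHom.snd A B), rfl⟩
  exact lf_mul hG hM hV (MonoidHom.inl A B) (fun _ _ e => congrArg Prod.fst e) hc1 h1 (isCharacter_mul hc1 hc2)
    (h2.comp q fun b => ⟨((1, b) : A × B), rfl⟩) fun _ _ => rfl

end gal

end Cfsg.Agent.OM
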