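import Cfsg.Agent.OM.Defs
import Cfsg.Agent.MK.R.Grp

/-!
# OM (S4894): the components over a non-abelian minimal normal subgroup of the central quotient (helper87)
-/

set_option autoImplicit false

namespace Cfsg.Agent.OM

open Cfsg Subgroup Cfsg.Agent.ODD.Red Cfsg.Agent.Lib.MinNormal Cfsg.Agent.Lib.MinNormalNonabelian
open Cfsg.Agent.MK.R (out_mem smul_eq_iff exists_out comm_out)

namespace CfB

variable {G : Type} [Group G]

theorem ih_mono {p : ℕ} {M : Ideal AlgInt} {m n : ℕ} (h : IH p M n) (hm : m ≤ n) : IH p M m :=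
  fun L _ _ h1 => h L (h1.trans_le hm)

section cmp

variable {S : Type} [Group S] {π : G →* S}

theorem cmp_qs [Finite G] (hπ : Function.Surjective π) (hc : π.ker ≤ center G) {T : Subgroup S} [IsSimpleGroup T]
    (h : ∀ z ∈ T, (∀ t ∈ T, Commute z t) → z = 1) :
    IsQuasisimple (cmpOf π T) ∧ ∀ z ∈ center (cmpOf π T), (z : G) ∈ π.ker := by
  obtain ⟨h1, h2⟩ := perfect_of_simple h
  let φ : cmpOf π T →* T := (π.comp (cmpOf π T).subtype).codRestrict T fun x => cmpOf_le π T x.2
  have hk : ∀ x ∈ φ.ker, (x : G) ∈ π.ker := fun x hx => congrArg Subtype.val (MonoidHom.mem_ker.1 hx)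
  obtain ⟨h3, h4⟩ := H831.GenFit.quasisimple_of_ext h1 φ (fun t => by
      have h5 : (t : S) ∈ (cmpOf π T).map π := by rw [map_cmpOf hπ h2]; exact t.2
      obtain ⟨x, hx, h6⟩ := h5
      exact ⟨⟨x, hx⟩, Subtype.ext h6⟩)
    (fun x hx => mem_center_iff.2 fun y => Subtype.ext (mem_center_iff.1 (hc (hk x hx)) y))
    (cmpOf_perfect hπ hc h2)
  exact ⟨h3, fun z hz => hk z (h4 ▸ hz)⟩

theorem cmp_conj [Finite G] (hc : π.ker ≤ center G) {M T : Subgroup S} [M.Normal] (hT : T ∈ minSet M) (g : G) :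
    g ∈ normalizer (cmpOf π T : Set G) ∨ ∀ x ∈ cmpOf π T, ∀ y ∈ cmpOf π T, Commute (g * x * g⁻¹) y := by
  have h3 : ∀ l : G, π l ∈ T → π (g * l * g⁻¹) ∈ T.map (MulAut.conj (π g)).toMonoidHom := fun l hl => ⟨π l, hl, by simp⟩
  by_cases h : T = T.map (MulAut.conj (π g)).toMonoidHom
  · left
    refine mem_normalizer_fintype fun x hx => ?_
    have h4 : (T.comap π).map (MulAut.conj g).toMonoidHom ≤ T.comap π := by
      rintro _ ⟨l, hl, rfl⟩
      have h5 := h3 l hl
      rw [← h] at h5
      exact h5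
    have h5 : (cmpOf π T).map (MulAut.conj g).toMonoidHom ≤ cmpOf π T := by
      rw [cmpOf, map_commutator]
      exact commutator_mono h4 h4
    exact h5 ⟨x, hx, rfl⟩
  · right
    intro x hx y hy
    exact (cmpOf_comm hc (minSet_comm hT (map_conj_mem_minSet hT (π g)) h) hy (h3 x (cmpOf_le π T hx))).symm

end cmp

variable {X : Subgroup G}

/-- the conjugates of `X` -/
noncomputable def cf (h1 : ∀ g, g ∈ normalizer (X : Set G) ∨ ∀ x ∈ X, ∀ y ∈ X, Commute (g * x * g⁻¹) y)
    (h2 : ∀ z ∈ center X, (z : G) ∈ center G) : Cf X.normalizerMonoidHom.range G (G ⧸ normalizer (X : Set G)) where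
  e i := (MulAut.conj i.out).toMonoidHom.comp X.subtype
  π := MulAction.toPermHom G _
  a g i := X.normalizerMonoidHom ⟨_, out_mem X g i⟩
  inj i := (MulAut.conj i.out).injective.comp X.subtype_injective
  ha g i x := by
    show g * (i.out * x * i.out⁻¹) * g⁻¹ = (g • i).out * ((g • i).out⁻¹ * (g * i.out) * x * ((g • i).out⁻¹ * (g * i.out))⁻¹) *
      (g • i).out⁻¹
    group
  mem g i := ⟨_, rfl⟩
  onto i j := by
    rintro _ ⟨n, rfl⟩
    have h : (j.out * n * i.out⁻¹) • i = j := (smul_eq_iff X).2 (by simp)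
    exact ⟨_, h, congrArg _ (Subtype.ext (by simp [h]))⟩
  ne := ⟨(1 : G)⟩
  comm i j h x y := comm_out h1 h x.2 y.2
  pie i x := Equiv.ext fun j => (smul_eq_iff X).2 (by
    show j.out⁻¹ * (i.out * x * i.out⁻¹ * j.out) ∈ _
    by_cases h : i = j
    · simpa [h] using le_normalizer x.2
    · refine centralizer_le_normalizer _ (mem_centralizer_iff.2 fun y hy => ?_)
      calc _ = j.out⁻¹ * (j.out * y * j.out⁻¹ * (i.out * x * i.out⁻¹)) * j.out := by group
        _ = _ := by rw [← comm_out h1 h x.2 hy]; group)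
  cen i z hz := (inferInstance : (center G).Normal).conj_mem _ (h2 z hz) _

/-- a prime divisor of the order of `N` divides the order of the centre or of `X` -/
theorem dvd_of {Y : Type} [Group Y] {Γ : Subgroup (MulAut Y)} {ι : Type} [Fintype ι] (c : Cf Γ G ι) {p : ℕ} (hp : p.Prime)
    (h : p ∣ Nat.card c.N) (hz : ¬ p ∣ Nat.card (center G)) : p ∣ Nat.card Y := by
  have h1 := MonoidHom.noncommPiCoprod_range (ϕ := c.e) (hcomm := fun i j hij x y => c.comm i j hij x y)
  have h2 := card_range_dvd (MonoidHom.noncommPiCoprod c.e fun i j hij x y => c.comm i j hij x y)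
  rw [h1, Nat.card_pi, Finset.prod_const] at h2
  rw [← ((center G).subgroupOf c.N).card_mul_index, Nat.card_congr (subgroupOfEquivOfLe (show center G ≤ c.N from le_sup_left)).toEquiv] at h
  have h3 : (center G).relIndex c.N ∣ Nat.card ↥(⨆ i, (c.e i).range) := by
    rw [Cf.N, relIndex_sup_left]
    exact relIndex_dvd_card _ _
  exact hp.dvd_of_dvd_pow ((((Nat.Prime.dvd_mul hp).1 h).resolve_left hz).trans (h3.trans h2))

end CfB

open CfB

theorem boxCf : BoxCf := by
  intro p M hp G _ _ N hN hZ hmin hna hz hc hd ih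
  let π := QuotientGroup.mk' (center G)
  have hπ : Function.Surjective π := QuotientGroup.mk'_surjective _
  have hk : π.ker = center G := QuotientGroup.ker_mk' _
  have hcm : (N.map π).comap π = N := by rw [comap_map_eq, hk, sup_eq_left.2 hZ]
  have : (N.map π).Normal := hN.map π hπ
  obtain ⟨⟨T, hT⟩, -, -, hsim, hz', -⟩ := nonabelian_structure (N.map π)
    (fun K h1 h2 => (hmin (K.comap π) (h1.comap π) (hk.ge.trans (ker_le_comap _ _)) ((comap_mono h2).trans hcm.le)).imp
      (fun e => by rw [← map_comap_eq_self_of_surjective hπ K, e, Subgroup.map_eq_bot_iff, hk])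
      fun e => by rw [← map_comap_eq_self_of_surjective hπ K, e])
    fun h => hna (commutator_le.2 fun x hx y hy => hk.le (by
      rw [MonoidHom.mem_ker, map_commutatorElement]
      exact commutatorElement_eq_one_iff_commute.2 (h _ ⟨x, hx, rfl⟩ _ ⟨y, hy, rfl⟩)))
  have := hsim T hT
  obtain ⟨qs, h2⟩ := cmp_qs hπ hk.le (hz' T hT)
  rw [hk] at h2
  have h1 := cmp_conj hk.le hT
  have hXN : cmpOf π T ≤ N := (cmpOf_le π T).trans ((comap_mono hT.1).trans hcm.le)
  generalize cmpOf π T = X at qs h1 h2 hXN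
  have h3 : center G ⊔ normalClosure (X : Set G) = N := by
    refine (hmin _ inferInstance le_sup_left (sup_le hZ (normalClosure_le_normal hXN))).resolve_left fun e => ?_
    have h4 : center X = ⊤ := eq_top_iff.2 fun x _ => mem_center_iff.2 fun y => Subtype.ext
      (mem_center_iff.1 (e.le (mem_sup_right (le_normalClosure x.2))) y)
    have := qs.2
    exact not_subsingleton (X ⧸ center X) (by rw [h4]; exact QuotientGroup.subsingleton_quotient_top)
  have h4 : (cf h1 h2).N = N := by
    refine le_antisymm (sup_le hZ (iSup_le fun i => ?_)) (h3.ge.trans (sup_le_sup_left ?_ _))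
    · rintro _ ⟨x, rfl⟩
      exact hN.conj_mem _ (hXN x.2) _
    · rw [normalClosure, closure_le]
      intro y hy
      obtain ⟨x, hx, hc⟩ := Group.mem_conjugatesOfSet_iff.1 hy
      obtain ⟨h, rfl⟩ := isConj_iff.1 hc
      obtain ⟨i, hi⟩ := exists_out X h
      obtain ⟨y, hy, e⟩ := hi x hx
      exact mem_iSup_of_mem i ⟨⟨y, hy⟩, e.symm⟩
  let ζ : center X →* center G := (X.subtype.comp (center X).subtype).codRestrict _ fun z => h2 _ z.2
  have hζ : Function.Injective ζ := fun a b e => Subtype.ext (Subtype.ext (congrArg (fun z : center G => (z : G)) e))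
  have := Fintype.ofFinite (G ⧸ normalizer (X : Set G))
  refine ⟨X, inferInstance, inferInstance, _, _, this, cf h1 h2, h4, qs, fun h => hz (h.trans (card_dvd_of_injective ζ hζ)),
    isCyclic_of_injective ζ hζ, dvd_of (cf h1 h2) hp (h4.symm ▸ hd) hz,
    fun x => ⟨⟨x, le_normalizer x.2⟩, MulEquiv.ext fun _ => rfl⟩, ?_, ih_mono ih ?_⟩
  · rintro _ ⟨n, rfl⟩ z hz
    refine Subtype.ext ?_
    show (n : G) * z * (n : G)⁻¹ = z
    rw [mem_center_iff.1 (h2 z hz), mul_inv_cancel_right]
  · rw [← index_ker]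
    refine Nat.le_of_dvd (Nat.pos_of_ne_zero index_ne_zero_of_finite)
      ((index_dvd_of_le ?_).trans (relIndex_dvd_index_of_normal (center G) (normalizer (X : Set G))))
    rw [normalizerMonoidHom_ker]
    exact comap_mono (center_le_centralizer _)

end Cfsg.Agent.OM
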