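import Cfsg.Agent.OM.Red.CompB
import Cfsg.Agent.OM.Red.Basic
import Cfsg.Agent.OM.Red.Gal
import Cfsg.Agent.Characters.CCBasic

/-!
# OM (S4894): the components step, `boxComp_of` and `boxComp` (helper48)
-/

set_option autoImplicit false

namespace Cfsg.Agent.OM

open Cfsg Subgroup Cfsg.Agent.H657 Cfsg.Agent.Characters.Core Cfsg.Agent.Blocks.Local Cfsg.Agent.OM.Tens
  Cfsg.Agent.H699.IBrLift

namespace Cp

variable {p : ℕ} {M : Ideal AlgInt} {V : ValuationSubring ℂ}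

attribute [local instance] Above.isAlgClosed

theorem lf_one (hM : IsPModular p M) (hV : Above M V) {G : Type} [Group G] [Finite G] {χ : G → ℂ}
    (hχ : IsCharacter G χ) (h : χ 1 = 1) : Lf p V χ := by
  have : Fact p.Prime := ⟨hM.1⟩
  have := hV.charP hM
  obtain ⟨m, idx, h1⟩ := exists_dec hM hV hχ
  refine lf_of_card (card_one_of_sigma (n := fun l => (idx l).deg) (fun l => (deg_pos _).ne') ?_) h1
  have h2 := h1 1 (reg_one hM.1)
  simp only [h, phi_one] at h2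
  rw [Fintype.card_sigma]
  simp only [Fintype.card_fin]
  exact_mod_cast h2.symm

variable {X : Type} [Group X]

theorem lf_fin [Finite X] (hG : BoxGal) (hM : IsPModular p M) (hV : Above M V) (n : ℕ) : ∀ ϑ : Fin n → X → ℂ,
    (∀ i, IsIrrCharacter X (ϑ i)) → (∀ i, Lf p V (ϑ i)) → Lf p V fun x : Fin n → X => ∏ i, ϑ i (x i) := by
  induction n with
  | zero => exact fun ϑ h _ => lf_one hM hV (isIrr_isCharacter (H671.Link.isIrr_pi h)) (by simp)
  | succ n ih =>
    intro ϑ h h'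
    let s : (Fin (n + 1) → X) →* X × (Fin n → X) := MonoidHom.mk' (fun x => (x 0, fun i => x i.succ)) fun _ _ => rfl
    refine ((lf_prod hG hM hV (isIrr_isCharacter (h 0)) (isIrr_isCharacter (H671.Link.isIrr_pi fun i : Fin n => h i.succ))
      (h' 0) (ih _ (fun i => h i.succ) fun i => h' i.succ)).comp s fun y => ⟨Fin.cons y.1 y.2, rfl⟩).congr fun x _ => ?_
    exact Fin.prod_univ_succ _

theorem lf_th [Finite X] (hG : BoxGal) (hM : IsPModular p M) (hV : Above M V) {Z ι : Type} [Group Z] [Finite Z]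
    [Fintype ι] (hc : ∀ a b : Z, a * b = b * a) {μ : Z → ℂ} {ϑ : ι → X → ℂ} (hμ : IsIrrCharacter Z μ) (h : ∀ i, IsIrrCharacter X (ϑ i))
    (h' : ∀ i, Lf p V (ϑ i)) : Lf p V (th μ ϑ) := by
  refine lf_prod hG hM hV (isIrr_isCharacter hμ) (isIrr_isCharacter (H671.Link.isIrr_pi h))
    (lf_one hM hV (isIrr_isCharacter hμ) (Characters.CCBasic.irr_apply_one_of_comm hc hμ)) ?_
  let e := (Fintype.equivFin ι).symm
  let s : (ι → X) →* (Fin (Fintype.card ι) → X) := MonoidHom.mk' (fun x i => x (e i)) fun _ _ => rfl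
  refine ((lf_fin hG hM hV _ (fun i => ϑ (e i)) (fun i => h _) fun i => h' _).comp s
    fun y => ⟨fun i => y (e.symm i), funext fun i => congrArg y (e.symm_apply_apply i)⟩).congr fun x _ => ?_
  exact (e.prod_comp fun i => ϑ i (x i)).symm

theorem reg_aut (α : MulAut X) {x : X} (h : IsPRegular p x) : IsPRegular p (α x) := reg_map α.toMonoidHom h

/-- the equivariant choice -/
theorem exists_eqv {ι : Type} {Γ : Subgroup (MulAut X)} (θ : ι → X → ℂ)
    (fix : ∀ i, ∀ α ∈ Γ, (∀ x, IsPRegular p x → θ i (α x) = θ i x) → ∀ x, θ i (α x) = θ i x) :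
    ∃ (r : ι → ι) (β : ι → MulAut X), (∀ i, β i ∈ Γ) ∧ (∀ i x, IsPRegular p x → θ (r i) (β i x) = θ i x) ∧
      ∀ i k, ∀ α ∈ Γ, (∀ x, IsPRegular p x → θ (r k) (β k (α x)) = θ (r i) (β i x)) →
        ∀ x, θ (r k) (β k (α x)) = θ (r i) (β i x) := by
  let S : Setoid ι := ⟨fun i k => ∃ α ∈ Γ, ∀ x, IsPRegular p x → θ i (α x) = θ k x,
    ⟨fun i => ⟨1, one_mem _, fun _ _ => rfl⟩,
      fun ⟨α, h1, h2⟩ => ⟨α⁻¹, inv_mem h1, fun x hx => by rw [← h2 _ (reg_aut α⁻¹ hx), MulAut.apply_inv_self]⟩,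
      fun ⟨α, h1, h2⟩ ⟨α', h1', h2'⟩ => ⟨α * α', mul_mem h1 h1', fun x hx => by
        rw [MulAut.mul_apply, h2 _ (reg_aut α' hx), h2' x hx]⟩⟩⟩
  let r : ι → ι := fun i => (Quotient.mk S i).out
  choose β h1 h2 using fun i =>
    (Quotient.mk_out (s := S) i : ∃ α ∈ Γ, ∀ x, IsPRegular p x → θ (r i) (α x) = θ i x)
  refine ⟨r, β, h1, h2, fun i k α hα h x => ?_⟩
  have h3 : r k = r i := congrArg Quotient.out (Quotient.sound (s := S)
    ⟨α, hα, fun y hy => by rw [← h2 k _ (reg_aut α hy), h y hy, h2 i y hy]⟩)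
  rw [h3] at h ⊢
  have h4 := fix (r i) (β k * α * (β i)⁻¹) (mul_mem (mul_mem (h1 k) hα) (inv_mem (h1 i))) (fun y hy => by
    rw [MulAut.mul_apply, MulAut.mul_apply, h _ (reg_aut _ hy), MulAut.apply_inv_self]) (β i x)
  rwa [MulAut.mul_apply, MulAut.mul_apply, MulAut.inv_apply_self] at h4

theorem eq_of_lf [Finite X] (hM : IsPModular p M) (hV : Above M V) {χ ψ : X → ℂ} (h1 : Lf p V χ) (h2 : Lf p V ψ)
    {a : ℂ} (h : ∀ x, IsPRegular p x → χ x = a * ψ x) (x : X) (hx : IsPRegular p x) : χ x = ψ x := by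
  obtain ⟨i, hi⟩ := h1
  obtain ⟨j, hj⟩ := h2
  rw [hi x hx, hj x hx, eq_of_prop_phi hM hV (i := i) (j := j) (c := a) fun y hy => by rw [← hi y hy, ← hj y hy, h y hy]]

end Cp

open Cp

/-- **the step through the components** -/
theorem boxComp_of (hG : BoxGal) (hT : BoxTens) : BoxComp := by
  intro p M V hM hV X _ _ Γ G _ _ ι _ c _ _ hQ hS hZ B hB hR hf
  have : Fact p.Prime := ⟨hM.1⟩
  have := isPrime_of_isPModular hM
  have := hV.charP hM
  have hk := ker_f c hM.1 hS.qs hS.ndvd hZ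
  have hrefl : ∀ {H : Type} [Group H] (φ : H → ℂ), SameBlock M φ φ := fun φ g => by
    rw [sub_self]; exact memLocalIdeal_zero
  obtain ⟨χ, hχ⟩ : ∃ χ, χ ∈ B := by
    obtain ⟨χ, rfl⟩ := hB
    exact ⟨χ, hrefl _⟩
  obtain ⟨ψ, hψ, h0⟩ := H597.Base.exists_constituent (isCharacter_comp c.N.subtype (isIrr_isCharacter χ.2))
    (by rw [Function.comp_apply, map_one]; exact isIrr_apply_one_ne_zero χ.2)
  have hu : Un B ψ := ⟨χ, hχ, h0⟩
  obtain ⟨μ, ϑ, h⟩ := exists_fam hψ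
  have hb : ∀ i, IsPBlock M (blockOf M (ϑ i)) := fun i => ⟨⟨ϑ i, h.hϑ i⟩, rfl⟩
  have hL : ∀ i, ∃ θ, Lift p Γ (blockOf M (ϑ i)) θ := fun i => by
    classical
    refine hQ Γ hS _ (hb i) (fun θ hθ z hz h1 => ?_) (h.one hM hk hB hR hu i)
    obtain ⟨ψ', h2, h3⟩ := h.change (ϑ' := Function.update ϑ i θ.1) hM hk hB hu
      (fun j => by
        by_cases e : j = i
        · rw [e, Function.update_self]; exact θ.2
        · rw [Function.update_of_ne e]; exact h.hϑ j)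
      fun j => by
        by_cases e : j = i
        · rw [e, Function.update_self]; exact hθ
        · rw [Function.update_of_ne e]; exact hrefl _
    exact h2.faith h3 hf i hz (by rwa [Function.update_self])
  choose θ hθ using hL
  have hlf : ∀ i, Lf p V (θ i).1 := fun i => lf_of_mn hM hV (hb i) (fun a ha b hb' => by
    have h1 := deg_eq hM hV (hb i) (h.one hM hk hB hR hu i) ha hb'
    rw [phi_one, phi_one] at h1
    exact_mod_cast h1) (hθ i).mn
  obtain ⟨r, β, h1, h2, h3⟩ := exists_eqv (p := p) (fun i => (θ i).1) fun i => (hθ i).fix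
  obtain ⟨η, hη⟩ : ∃ η : ι → X → ℂ, ∀ i, η i = fun x => (θ (r i)).1 (β i x) := ⟨_, fun _ => rfl⟩
  have hirr : ∀ i, IsIrrCharacter X (η i) := fun i =>
    hη i ▸ isIrr_comp (β i).toMonoidHom (β i).surjective (θ (r i)).2
  have hlf' : ∀ i, Lf p V (η i) := fun i => hη i ▸ (hlf i).congr (h2 i)
  obtain ⟨ψ', hF, hU⟩ := h.change hM hk hB hu hirr fun i => Blocks.Covering.sameBlock_trans (isPrime_of_isPModular hM) (hθ i).mn.1
    (sameBlock_of_prop hM (θ i).2 (hirr i) fun x hx => by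
      rw [hη]
      show _ * (θ (r i)).1 (β i 1) = (θ (r i)).1 (β i x) * _
      rw [h2 i x hx, h2 i 1 (reg_one hM.1)])
  refine ⟨ψ', ⟨hF.hψ, ?_, fun g hg n => ?_, fun hp => ?_, fun hp P hP h4 h5 => ?_⟩, hU⟩
  · exact Lf.of_res hM hV (isIrr_isCharacter hF.hψ) (f c)
      ((lf_th hG hM hV (fun a b => Subtype.ext (mem_center_iff.1 b.2 a)) hF.hμ hirr hlf').congr fun d _ => hF.eq d)
  · have h4 : ∀ i x, η (c.π g i) (c.a g i x) = η i x := fun i => by
      have h5 := eq_of_lf hM hV ((hlf' (c.π g i)).comp (c.a g i).toMonoidHom (c.a g i).surjective) (hlf' i)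
        (a := η (c.π g i) 1 / η i 1) fun x hx => by
          have h6 := hg ⟨c.e i x, c.e_mem i x⟩ (isPRegular_coe.1 (reg_map (c.e i) hx))
          have h7 := hF.div (c.π g i) (c.a g i x)
          rw [← conj_e, h6, hF.div, div_eq_div_iff (isIrr_apply_one_ne_zero (hirr _))
            (isIrr_apply_one_ne_zero (hirr _))] at h7
          rw [div_mul_eq_mul_div, eq_div_iff (isIrr_apply_one_ne_zero (hirr _)), mul_comm (η _ 1)]
          exact h7.symm
      rw [hη, hη] at h5 ⊢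
      exact h3 i _ _ (c.mem g i) h5
    obtain ⟨d, rfl⟩ := f_surj c n
    rw [f_act, hF.eq, hF.eq]
    refine congrArg (μ d.1 * ·) ((Equiv.prod_comp (c.π g) fun k => η k ((act c g d).2 k)).symm.trans
      (Finset.prod_congr rfl fun i _ => ?_))
    rw [act_snd, h4]
  · obtain ⟨n, hn, h4⟩ := th_rat hM.1 hZ hF.hμ (ϑ := η) fun i => by
      obtain ⟨n, hn, h4⟩ := (hθ (r i)).rat hp
      exact ⟨n, hn, fun x => hη i ▸ h4 _⟩
    refine ⟨n, hn, fun y => ?_⟩
    obtain ⟨d, rfl⟩ := f_surj c y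
    rw [hF.eq]
    exact h4 d
  · exact hT p hM.1 X Γ G ι c hS.qs hZ ψ' η hF.hψ hirr hF.val
      (fun i => hη i ▸ ext_comp ((hθ (r i)).ext hp) (h1 i)) P hP h4 h5

theorem boxComp : BoxComp := boxComp_of boxGal boxTens

end Cfsg.Agent.OM
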