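import Cfsg.Agent.OM.Defs
import Cfsg.Agent.MK.C.Main

/-!
# OM (S4894): tensor induction, `boxTens` (helper31)
-/

set_option autoImplicit false
set_option maxHeartbeats 400000
set_option linter.unusedSectionVars false

namespace Cfsg.Agent.OM.Tens

open Cfsg Subgroup Cfsg.Agent.Characters.Core
open Cfsg.Agent.MK.H (conj_eq_one conj_eq_conj)
open Cfsg.Agent.MK.C (tensor eq_of_prop)

/-- a character whose kernel contains the kernel of `f` comes from the image -/
theorem descend {F P : Type} [Group F] [Group P] [Finite F] (f : F →* P) (hf : Function.Surjective f) {Φ : F → ℂ}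
    (hΦ : IsCharacter F Φ) (h : ∀ k, f k = 1 → Φ k = Φ 1) : ∃ Ψ, IsCharacter P Ψ ∧ ∀ x, Ψ (f x) = Φ x := by
  obtain ⟨n, ρ, rfl⟩ := hΦ
  have h1 : f.ker ≤ ρ.asGroupHom.ker := fun k hk => by
    have h2 := h k hk
    rw [Representation.char_one] at h2
    exact Units.ext ((Characters.Values.character_eq_finrank_iff ρ k).1 h2)
  refine ⟨_, ⟨n, (Units.coeHom _).comp (f.liftOfSurjective hf ⟨_, h1⟩), rfl⟩, fun x => ?_⟩
  have h2 : f.liftOfSurjective hf ⟨_, h1⟩ (f x) = ρ.asGroupHom x := f.liftOfRightInverse_comp_apply _ _ _ x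
  exact congrArg (fun u : (Module.End ℂ (Fin n → ℂ))ˣ => LinearMap.trace ℂ _ (u : Module.End ℂ (Fin n → ℂ))) h2

theorem exists_pc {X : Type} [Group X] [Finite X] {p : ℕ} (hp : p.Prime) {H : Subgroup X} {x : X} {k : ℕ}
    (h : x ^ p ^ k ∈ H) : ∃ y : X, (∃ j : ℕ, y ^ p ^ j = 1) ∧ y⁻¹ * x ∈ H := by
  obtain ⟨a, m, hm, e⟩ := Nat.exists_eq_pow_mul_and_not_dvd (orderOf_pos x).ne' p hp.ne_one
  obtain ⟨u, v, huv⟩ := Nat.isCoprime_iff_coprime.2 (((Nat.Prime.coprime_iff_not_dvd hp).2 hm).pow_left k)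
  refine ⟨x ^ (v * m), ⟨a, ?_⟩, ?_⟩
  · rw [← zpow_natCast, ← zpow_mul, mul_assoc, mul_comm v, zpow_mul, ← Nat.cast_mul, mul_comm m, ← e, zpow_natCast,
      pow_orderOf_eq_one, one_zpow]
  · have h1 : (x ^ (v * m))⁻¹ * x = (x ^ p ^ k) ^ u := by
      rw [← zpow_natCast, ← zpow_mul, ← zpow_neg, ← zpow_add_one]
      congr 1
      linear_combination -huv
    rw [h1]
    exact zpow_mem h u

theorem noncomm {X : Type} [Group X] (h : IsQuasisimple X) : ∃ x y : X, x * y ≠ y * x := by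
  by_contra h1
  push Not at h1
  have := h.2
  obtain ⟨a, b, hab⟩ := exists_pair_ne (X ⧸ center X)
  obtain ⟨a, rfl⟩ := QuotientGroup.mk_surjective a
  obtain ⟨b, rfl⟩ := QuotientGroup.mk_surjective b
  exact hab (QuotientGroup.eq.2 (mem_center_iff.2 fun g => h1 _ _))

variable {X : Type} [Group X] {Γ : Subgroup (MulAut X)} {G : Type} [Group G] {ι : Type} (c : Cf Γ G ι)

theorem a_mul (g h : G) (i : ι) : c.a (g * h) i = c.a g (c.π h i) * c.a h i := by
  ext x
  refine c.inj (c.π (g * h) i) ?_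
  rw [← c.ha, map_mul, Equiv.Perm.mul_apply, MulAut.mul_apply, ← c.ha, ← c.ha]
  group

theorem a_one (i : ι) : c.a 1 i = 1 := by
  have h := a_mul c 1 1 i
  rw [mul_one, map_one, Equiv.Perm.one_apply] at h
  exact mul_eq_left.1 h.symm

theorem a_inv (g : G) (i : ι) : c.a g⁻¹ (c.π g i) = (c.a g i)⁻¹ := by
  have h := a_mul c g⁻¹ g i
  rw [inv_mul_cancel, a_one] at h
  exact eq_inv_of_mul_eq_one_left h.symm

theorem a_e_self (i : ι) (x : X) : c.a (c.e i x) i = MulAut.conj x := by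
  ext y
  have h := c.ha (c.e i x) i y
  rw [c.pie, Equiv.Perm.one_apply, ← map_inv, ← map_mul, ← map_mul] at h
  exact (c.inj i h).symm

theorem a_e_ne {i j : ι} (h : i ≠ j) (x : X) : c.a (c.e i x) j = 1 := by
  ext y
  have h1 := c.ha (c.e i x) j y
  rw [c.pie, Equiv.Perm.one_apply, c.comm i j h, mul_inv_cancel_right] at h1
  exact (c.inj j h1).symm

theorem π_cen (hX : ∃ x y : X, x * y ≠ y * x) {z : G} (hz : z ∈ center G) : c.π z = 1 := by
  obtain ⟨x, y, hxy⟩ := hX
  ext i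
  by_contra h
  have h1 := c.ha z i x
  rw [← mem_center_iff.1 hz, mul_inv_cancel_right] at h1
  apply hxy
  apply c.inj i
  rw [map_mul, map_mul, h1]
  exact c.comm _ _ h _ _

theorem a_cen (hX : ∃ x y : X, x * y ≠ y * x) {z : G} (hz : z ∈ center G) (i : ι) : c.a z i = 1 := by
  ext x
  have h1 := c.ha z i x
  rw [← mem_center_iff.1 hz, mul_inv_cancel_right, π_cen c hX hz, Equiv.Perm.one_apply] at h1
  exact (c.inj i h1).symm

/-- the action on the product -/
def act : G →* MulAut (center G × (ι → X)) :=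
  MonoidHom.mk' (fun g =>
    { toFun := fun d => (d.1, fun k => c.a g ((c.π g).symm k) (d.2 ((c.π g).symm k)))
      invFun := fun d => (d.1, fun i => (c.a g i)⁻¹ (d.2 (c.π g i)))
      left_inv := fun d => by simp
      right_inv := fun d => by simp
      map_mul' := fun d e => Prod.ext rfl (funext fun k => map_mul _ _ _) }) fun g h => by
    refine MulEquiv.ext fun d => Prod.ext rfl (funext fun k => ?_)
    obtain ⟨k, rfl⟩ := (c.π (g * h)).surjective k
    change c.a (g * h) ((c.π (g * h)).symm (c.π (g * h) k)) (d.2 ((c.π (g * h)).symm (c.π (g * h) k))) =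
      c.a g ((c.π g).symm (c.π (g * h) k)) (c.a h ((c.π h).symm ((c.π g).symm (c.π (g * h) k)))
        (d.2 ((c.π h).symm ((c.π g).symm (c.π (g * h) k)))))
    rw [Equiv.symm_apply_apply, map_mul, Equiv.Perm.mul_apply, Equiv.symm_apply_apply, Equiv.symm_apply_apply, a_mul,
      MulAut.mul_apply]

theorem act_snd (g : G) (d : center G × (ι → X)) (i : ι) : (act c g d).2 (c.π g i) = c.a g i (d.2 i) := by
  change c.a g ((c.π g).symm (c.π g i)) (d.2 ((c.π g).symm (c.π g i))) = _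
  rw [Equiv.symm_apply_apply]

variable [Fintype ι]

/-- the product map -/
noncomputable def pr : (ι → X) →* G := MonoidHom.noncommPiCoprod c.e fun i j h x y => c.comm i j h x y

theorem pr_single [DecidableEq ι] (i : ι) (x : X) : pr c (Pi.mulSingle i x) = c.e i x :=
  MonoidHom.noncommPiCoprod_mulSingle c.e i x

theorem range_pr : (pr c).range = ⨆ i, (c.e i).range := MonoidHom.noncommPiCoprod_range c.e

theorem π_pr (x : ι → X) : c.π (pr c x) = 1 := by
  classical
  have h : c.π.comp (pr c) = 1 := MonoidHom.pi_ext fun i y => by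
    rw [MonoidHom.comp_apply, pr_single, c.pie, MonoidHom.one_apply]
  exact DFunLike.congr_fun h x

theorem a_pr (x : ι → X) (i : ι) : c.a (pr c x) i = MulAut.conj (x i) := by
  classical
  let f : (ι → X) →* MulAut X := MonoidHom.mk' (fun x => c.a (pr c x) i) fun x y => by
    rw [map_mul, a_mul, π_pr, Equiv.Perm.one_apply]
  have h : f = MulAut.conj.comp (Pi.evalMonoidHom (fun _ : ι => X) i) := MonoidHom.pi_ext fun j y => by
    change c.a (pr c (Pi.mulSingle j y)) i = MulAut.conj ((Pi.mulSingle j y : ι → X) i)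
    rw [pr_single]
    by_cases hj : j = i
    · subst hj
      rw [a_e_self, Pi.mulSingle_eq_same]
    · rw [a_e_ne c hj, Pi.mulSingle_eq_of_ne' hj, map_one]
  exact DFunLike.congr_fun h x

theorem conj_pr (g : G) (d : center G × (ι → X)) : g * pr c d.2 * g⁻¹ = pr c (act c g d).2 := by
  classical
  let φ : (ι → X) →* (ι → X) := (MonoidHom.snd _ _).comp ((act c g).toMonoidHom.comp (MonoidHom.inr _ _))
  have h1 : (MulAut.conj g).toMonoidHom.comp (pr c) = (pr c).comp φ := MonoidHom.pi_ext fun j z => by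
    change g * pr c (Pi.mulSingle j z) * g⁻¹ = pr c (φ (Pi.mulSingle j z))
    rw [pr_single, c.ha, ← pr_single]
    congr 1
    ext k
    obtain ⟨k, rfl⟩ := (c.π g).surjective k
    refine Eq.trans ?_ (act_snd c g (1, Pi.mulSingle j z) k).symm
    by_cases hk : k = j
    · subst hk
      simp only [Pi.mulSingle_eq_same]
    · simp only [Pi.mulSingle_eq_of_ne hk, Pi.mulSingle_eq_of_ne fun e => hk ((c.π g).injective e), map_one]
  exact DFunLike.congr_fun h1 d.2

theorem pr_cen {x : ι → X} (h : ∀ i, x i ∈ center X) : pr c x ∈ center G := by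
  exact noncommProd_mem (t := Finset.univ) (f := fun i => c.e i (x i)) _ (fun i _ j _ e => c.comm i j e _ _)
    fun i _ => c.cen i _ (h i)

/-- the product map with the centre -/
noncomputable def q : center G × (ι → X) →* G :=
  MonoidHom.mk' (fun d => d.1 * pr c d.2) fun d e => by
    rw [Prod.snd_mul, map_mul, Prod.fst_mul, coe_mul, mul_assoc, mul_assoc, ← mul_assoc (pr c _) (e.1 : G),
      mem_center_iff.1 e.1.2 (pr c _), mul_assoc]

theorem q_apply (d : center G × (ι → X)) : q c d = d.1 * pr c d.2 := rfl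

theorem mem_N {g : G} : g ∈ c.N ↔ ∃ d, q c d = g := by
  rw [Cf.N, ← range_pr, mem_sup_of_normal_left]
  exact ⟨fun ⟨z, hz, _, ⟨x, rfl⟩, e⟩ => ⟨(⟨z, hz⟩, x), e⟩, fun ⟨d, e⟩ => ⟨d.1, d.1.2, _, ⟨d.2, rfl⟩, e⟩⟩

theorem q_act (g : G) (d : center G × (ι → X)) : q c (act c g d) = g * q c d * g⁻¹ := by
  rw [q_apply, q_apply, ← conj_pr, ← mul_assoc g, mem_center_iff.1 d.1.2 g, mul_assoc, mul_assoc, mul_assoc]
  rfl

theorem π_q (hX : ∃ x y : X, x * y ≠ y * x) (d : center G × (ι → X)) : c.π (q c d) = 1 := by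
  rw [q_apply, map_mul, π_cen c hX d.1.2, π_pr, mul_one]

theorem a_q (hX : ∃ x y : X, x * y ≠ y * x) (d : center G × (ι → X)) (i : ι) :
    c.a (q c d) i = MulAut.conj (d.2 i) := by
  rw [q_apply, a_mul, a_cen c hX d.1.2, one_mul, a_pr]

variable [Finite X] [Finite G]

/-- **the character of the semidirect product** -/
theorem core {p : ℕ} (hp : p.Prime) (hX : ∃ x y : X, x * y ≠ y * x) (hZ : ¬ p ∣ Nat.card (center G))
    {U : Type} [Group U] (hU : IsPGroup p U) (s : U →* G) {μ : center G → ℂ} (hμ : IsCharacter _ μ) {ϑ : ι → X → ℂ}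
    (hu : ∀ u i x, ϑ (c.π (s u) i) (c.a (s u) i x) = ϑ i x) (hE : ∀ i, Ext p Γ (ϑ i))
    (hq : ∀ d, q c d = 1 → μ d.1 * ∏ i, ϑ i (d.2 i) = μ 1 * ∏ i, ϑ i 1) :
    ∃ Φ, IsCharacter ((center G × (ι → X)) ⋊[(act c).comp s] U) Φ ∧
      (∀ d, Φ (SemidirectProduct.inl d) = μ d.1 * ∏ i, ϑ i (d.2 i)) ∧ ∀ f, q c f.left * s f.right = 1 → Φ f = Φ 1 := by
  classical
  let F := (center G × (ι → X)) ⋊[(act c).comp s] U
  let S : Setoid ι := ⟨fun i k => ∃ u, c.π (s u) i = k, ⟨fun i => ⟨1, by simp⟩,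
    fun ⟨u, h⟩ => ⟨u⁻¹, by rw [← h]; simp⟩, fun ⟨u, h⟩ ⟨v, h'⟩ => ⟨v * u, by rw [← h', ← h]; simp⟩⟩⟩
  let r : ι → ι := fun i => (Quotient.mk S i).out
  choose g hg using fun i => (Quotient.mk_out (s := S) i : ∃ u, c.π (s u) (r i) = i)
  let β : ι → MulAut X := fun i => c.a (s (g i)) (r i)
  have hβ : ∀ i x, ϑ (r i) x = ϑ i (β i x) := fun i x => by
    rw [← hu (g i), hg]
  let π : F →* Equiv.Perm ι := c.π.comp (s.comp SemidirectProduct.rightHom)
  have hr : ∀ f i, r (π f i) = r i := fun f i => congrArg Quotient.out (Quotient.sound (S.symm ⟨f.right, rfl⟩))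
  let St : ι → Subgroup U := fun o => (MulAction.stabilizer (Equiv.Perm ι) o).comap (c.π.comp s)
  let b : ∀ o, St o →* MulAut X := fun o => MonoidHom.mk' (fun u => c.a (s u) o) fun u v => by
    rw [coe_mul, map_mul, a_mul, show c.π (s v) o = o from v.2]
  choose W iW jW tW Ψ hΨ k1 k2 k3 using fun o => hE o (b o).range (by rintro _ ⟨u, rfl⟩; exact c.mem _ _)
    ((hU.to_subgroup _).of_surjective _ (b o).rangeRestrict_surjective) (by
      rintro _ ⟨u, rfl⟩ x
      have h := hu u o x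
      rwa [show c.π (s u) o = o from u.2] at h)
  let tW' : ∀ o, MulAut X → W o := fun o α => if hα : α ∈ (b o).range then tW o ⟨α, hα⟩ else 1
  let γ : F → ι → MulAut X := fun f i => (β (π f i))⁻¹ * c.a (s f.right) i * β i
  have hγ : ∀ f i, γ f i ∈ (b (r i)).range := fun f i => by
    have h1 : c.π (s (g (π f i))) (r i) = c.π (s f.right) (c.π (s (g i)) (r i)) := by
      rw [hg, ← hr f i, hg]
      rfl
    refine ⟨⟨(g (π f i))⁻¹ * (f.right * g i), ?_⟩, ?_⟩
    · change c.π (s _) (r i) = r i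
      simp only [map_mul, map_inv, Equiv.Perm.mul_apply]
      rw [← h1, Equiv.Perm.inv_def, Equiv.symm_apply_apply]
    · change c.a (s _) (r i) = _
      rw [map_mul, map_mul, map_inv, a_mul, a_mul, map_mul, Equiv.Perm.mul_apply, ← h1, a_inv, hg, ← mul_assoc]
      simp only [γ, β, hr]
  obtain ⟨Φ, hΦ, hΦ'⟩ := tensor π r hr W Ψ hΨ
    (fun a f i => jW a ((β (π f i))⁻¹ (f.left.2 (π f i))) * tW' a (γ f i)) (fun a f g i ha => by
      subst ha
      have g1 : γ (f * g) i = γ f (π g i) * γ g i := by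
        have g0 : c.a (s (f * g).right) i = c.a (s f.right) (π g i) * c.a (s g.right) i := by
          rw [SemidirectProduct.mul_right, map_mul]
          exact a_mul c _ _ i
        simp only [γ, map_mul, Equiv.Perm.mul_apply, g0]
        group
      have g2 : (f * g).left.2 (π (f * g) i) =
          f.left.2 (π f (π g i)) * c.a (s f.right) (π g i) (g.left.2 (π g i)) := by
        rw [map_mul, Equiv.Perm.mul_apply, ← act_snd]
        rfl
      have m1 := hγ (f * g) i
      have m2 := hγ f (π g i)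
      have m3 := hγ g i
      rw [hr] at m2
      simp only [tW', dif_pos m1, dif_pos m2, dif_pos m3]
      rw [mul_assoc, ← mul_assoc (tW _ _), k2 (r i) ⟨_, m2⟩, mul_assoc, ← map_mul, ← mul_assoc, ← map_mul, g2]
      congr 2
      · simp only [γ, map_mul, Equiv.Perm.mul_apply, MulAut.mul_apply, MulAut.apply_inv_self]
      · exact Subtype.ext g1)
  let z : F →* center G := MonoidHom.mk' (fun f => f.left.1) fun _ _ => rfl
  have h1 : ∀ d, (μ ∘ z * Φ) (SemidirectProduct.inl d) = μ d.1 * ∏ i, ϑ i (d.2 i) := fun d => by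
    have p1 : π (SemidirectProduct.inl d) = 1 := map_one (c.π.comp s)
    rw [Pi.mul_apply, hΦ' _ p1]
    refine congrArg₂ _ rfl (Finset.prod_congr rfl fun i _ => ?_)
    have g1 : γ (SemidirectProduct.inl d) i = 1 := by
      simp only [γ, p1, SemidirectProduct.right_inl, map_one, a_one, Equiv.Perm.one_apply, mul_one, inv_mul_cancel]
    simp only [tW', g1, dif_pos (one_mem _), p1, Equiv.Perm.one_apply]
    rw [show (⟨1, one_mem _⟩ : (b (r i)).range) = 1 from rfl, map_one, mul_one, k1, hβ, MulAut.apply_inv_self]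
    rfl
  refine ⟨μ ∘ z * Φ, isCharacter_mul (isCharacter_comp z hμ) hΦ, h1, fun f hf => ?_⟩
  have h2 : s f.right = q c f.left⁻¹ := by rw [map_inv]; exact eq_inv_of_mul_eq_one_right hf
  have p1 : π f = 1 := by
    change c.π (s f.right) = 1
    rw [h2, π_q c hX]
  have h3 : ∀ i, c.a (s f.right) i = MulAut.conj (f.left.2 i)⁻¹ := fun i => by rw [h2, a_q c hX]; rfl
  obtain ⟨k, hk⟩ := hU f.right
  have h4 : ∀ i, (f.left.2 i)⁻¹ ^ p ^ k ∈ center X := fun i => by
    have h5 := a_q c hX (f.left⁻¹ ^ p ^ k) i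
    rw [map_pow, ← h2, ← map_pow, hk, map_one, a_one] at h5
    exact conj_eq_one.1 h5.symm
  choose y hy hy' using fun i => exists_pc hp (h4 i)
  have h5 : ∀ i, f.left.2 i * y i ∈ center X := fun i => by simpa using inv_mem (hy' i)
  have h6 : q c (f.left.1, f.left.2 * y) = 1 := by
    have h7 : q c (f.left.1, f.left.2 * y) ∈ center G := mul_mem f.left.1.2 (pr_cen c h5)
    have h8 : pr c y = s f.right * q c (f.left.1, f.left.2 * y) := by
      rw [h2, map_inv, q_apply, q_apply, map_mul, ← mul_assoc (f.left.1 : G), inv_mul_cancel_left]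
    choose j hj using hy
    have h9 : y ^ p ^ (k + ∑ i, j i) = 1 := funext fun i => by
      obtain ⟨n, hn⟩ := Nat.exists_eq_add_of_le ((Finset.single_le_sum (f := j) (fun _ _ => Nat.zero_le _)
        (Finset.mem_univ i)).trans (Nat.le_add_left _ k))
      rw [Pi.pow_apply, hn, pow_add, pow_mul, hj, one_pow, Pi.one_apply]
    have h10 := congrArg (· ^ p ^ (k + ∑ i, j i)) h8
    simp only [← map_pow (pr c), h9, map_one] at h10
    rw [Commute.mul_pow (mem_center_iff.1 h7 _), ← map_pow, pow_add, pow_mul, hk, one_pow, map_one, one_mul, ← pow_add] at h10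
    rw [← orderOf_eq_one_iff]
    exact Nat.eq_one_of_dvd_coprimes (((Nat.Prime.coprime_iff_not_dvd hp).2 hZ).pow_left _)
      (orderOf_dvd_of_pow_eq_one h10.symm) (Subgroup.orderOf_dvd_natCard _ h7)
  rw [← map_one SemidirectProduct.inl, h1, Prod.fst_one, Prod.snd_one]
  refine Eq.trans ?_ (hq _ h6)
  rw [Pi.mul_apply, hΦ' _ p1]
  refine congrArg₂ _ rfl (Finset.prod_congr rfl fun i _ => ?_)
  have g1 : γ f i = MulAut.conj ((β i)⁻¹ (y i)) := by
    have g2 : MulAut.conj (f.left.2 i)⁻¹ = MulAut.conj (y i) := conj_eq_conj.2 (hy' i)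
    simp only [γ, p1, Equiv.Perm.one_apply, h3, g2]
    ext x
    simp
  have m1 := hγ f i
  rw [g1] at m1
  simp only [tW', g1, dif_pos m1, p1, Equiv.Perm.one_apply]
  rw [k3 _ _ m1 ((hy i).imp fun j hj => by rw [← map_pow, hj, map_one]), ← map_mul, ← map_mul, k1, hβ,
    MulAut.apply_inv_self]
  rfl

end Cfsg.Agent.OM.Tens

namespace Cfsg.Agent.OM

open Cfsg Subgroup Cfsg.Agent.Characters.Core Cfsg.Agent.OM.Tens
open Cfsg.Agent.MK.C (eq_of_prop)

/-- **tensor induction** -/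
theorem boxTens : BoxTens := by
  intro p hp X _ _ Γ G _ _ ι _ c _ hX hZ θ ϑ hθ hϑ h hE P hP hpP hinv
  classical
  have : Fact p.Prime := ⟨hp⟩
  have hX := noncomm hX
  have hq : ∀ d, q c d ∈ c.N := fun d => (mem_N c).2 ⟨d, rfl⟩
  let q' : center G × (ι → X) →* c.N := (q c).codRestrict _ hq
  have hq' : Function.Surjective q' := fun n => by
    obtain ⟨d, hd⟩ := (mem_N c).1 n.2
    exact ⟨d, Subtype.ext hd⟩
  have h0 := isIrr_apply_one_ne_zero hθ
  -- the product decomposition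
  obtain ⟨μ, ψ, hμ, hψ, e⟩ := (S0188.result _).1 (isIrr_comp q' hq' hθ)
  obtain ⟨ϑ', h1, e'⟩ := H624.MGroup.exists_pi ψ hψ
  have h2 : ϑ' = ϑ := funext fun i => by
    refine eq_of_prop (h1 i) (hϑ i) (a := μ 1 * (∏ j ∈ Finset.univ.erase i, ϑ' j 1) * ϑ i 1)
      (mul_ne_zero (mul_ne_zero (isIrr_apply_one_ne_zero hμ) (Finset.prod_ne_zero_iff.2 fun j _ =>
        isIrr_apply_one_ne_zero (h1 j))) (isIrr_apply_one_ne_zero (hϑ i))) (b := θ 1) fun x => ?_
    have h3 : q' (1, Pi.mulSingle i x) = ⟨c.e i x, c.e_mem i x⟩ := Subtype.ext (by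
      change q c _ = c.e i x
      rw [q_apply, coe_one, one_mul, pr_single])
    have h4 := congrFun e (1, Pi.mulSingle i x)
    simp only [Function.comp_apply, h3, e'] at h4
    have h5 : ∏ j ∈ Finset.univ.erase i, ϑ' j ((Pi.mulSingle i x : ι → X) j) = ∏ j ∈ Finset.univ.erase i, ϑ' j 1 :=
      Finset.prod_congr rfl fun j hj => by rw [Pi.mulSingle_eq_of_ne (Finset.ne_of_mem_erase hj)]
    rw [← h, h4, ← Finset.mul_prod_erase _ _ (Finset.mem_univ i), Pi.mulSingle_eq_same, h5]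
    ring
  subst h2
  have h3 : ∀ d, θ (q' d) = μ d.1 * ∏ i, ϑ' i (d.2 i) := fun d => (congrFun e d).trans (by rw [e'])
  -- a Sylow subgroup
  obtain ⟨U⟩ : Nonempty (Sylow p P) := inferInstance
  let s : U →* G := P.subtype.comp (U : Subgroup P).subtype
  have hu : ∀ (u : U) i x, ϑ' (c.π (s u) i) (c.a (s u) i x) = ϑ' i x := fun u i => congrFun (by
    refine eq_of_prop (isIrr_comp (c.a (s u) i).toMonoidHom (c.a (s u) i).surjective (hϑ _)) (hϑ i)
      (a := θ 1 * ϑ' i 1) (mul_ne_zero h0 (isIrr_apply_one_ne_zero (hϑ i))) (b := θ 1 * ϑ' (c.π (s u) i) 1) fun x => ?_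
    have h4 := hinv (s u) u.1.2 ⟨c.e i x, c.e_mem i x⟩
    have h5 : MulAut.conjNormal (s u) (⟨c.e i x, c.e_mem i x⟩ : c.N) = ⟨_, c.e_mem (c.π (s u) i) (c.a (s u) i x)⟩ :=
      Subtype.ext (c.ha _ _ _)
    rw [h5] at h4
    have h6 := h (c.π (s u) i) (c.a (s u) i x)
    rw [h4] at h6
    have h7 := h i x
    change ϑ' _ (c.a (s u) i x) * _ = _
    linear_combination -ϑ' i 1 * h6 + ϑ' (c.π (s u) i) 1 * h7)
  obtain ⟨Φ, hΦ, k1, k2⟩ := core c hp hX hZ U.isPGroup' s (isIrr_isCharacter hμ) hu hE fun d hd => by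
    rw [← h3, show q' d = q' 1 from Subtype.ext (hd.trans (map_one _).symm), h3]
    rfl
  let f : (center G × (ι → X)) ⋊[(act c).comp s] U →* P :=
    SemidirectProduct.lift ((inclusion hP).comp q') (U : Subgroup P).subtype fun u =>
      MonoidHom.ext fun d => Subtype.ext (q_act c (s u) d)
  have hf : Function.Surjective f := fun x => by
    let m := QuotientGroup.mk' (c.N.subgroupOf P)
    have hm : Function.Surjective m := QuotientGroup.mk'_surjective _
    have h4 : IsPGroup p (P ⧸ c.N.subgroupOf P) := fun y => by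
      obtain ⟨y, rfl⟩ := hm y
      obtain ⟨k, hk⟩ := hpP y y.2
      exact ⟨k, by rw [← map_pow]; exact (QuotientGroup.eq_one_iff _).2 hk⟩
    have h5 : (U : Subgroup P).map m = ⊤ :=
      ((U.mapSurjective hm).is_maximal' (h4.to_subgroup ⊤) le_top).symm
    obtain ⟨u, hu, h6⟩ := h5.ge (mem_top (m x⁻¹))
    have h8 : x⁻¹⁻¹ * u ∈ c.N.subgroupOf P := QuotientGroup.eq.1 h6.symm
    obtain ⟨d, hd⟩ := hq' ⟨_, h8⟩
    refine ⟨⟨d, ⟨u, hu⟩⁻¹⟩, Subtype.ext ?_⟩
    have h7 : q c d = x⁻¹⁻¹ * u := congrArg Subtype.val hd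
    change q c d * (u : G)⁻¹ = x
    rw [h7, inv_inv, mul_inv_cancel_right]
  have : Finite ((center G × (ι → X)) ⋊[(act c).comp s] U) := Finite.of_equiv _ SemidirectProduct.equivProd.symm
  obtain ⟨Ψ, hΨ, k3⟩ := descend f hf hΦ fun k hk => k2 k (congrArg Subtype.val hk)
  refine ⟨Ψ, hΨ, fun n => ?_⟩
  obtain ⟨d, rfl⟩ := hq' n
  rw [h3, ← k1, ← k3, SemidirectProduct.lift_inl]
  rfl

end Cfsg.Agent.OM
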