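import Cfsg.Agent.OM.Red.CompA
import Cfsg.Agent.OM.Red.Tens
import Cfsg.Agent.H597.Base
import Cfsg.Agent.S4432

/-!
# OM (S4894), the components step: families of characters of the components (helper48)
-/

set_option autoImplicit false
set_option linter.unusedSectionVars false

namespace Cfsg.Agent.OM.Cp

open Cfsg Subgroup Cfsg.Agent.H657 Cfsg.Agent.Characters.Core Cfsg.Agent.Blocks.Local Cfsg.Agent.OM.Tens

variable {p : ℕ} {M : Ideal AlgInt} {X : Type} [Group X] {Γ : Subgroup (MulAut X)} {G : Type} [Group G] {ι : Type}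
  [Fintype ι] (c : Cf Γ G ι)

/-- the product map onto `N` -/
noncomputable def f : center G × (ι → X) →* c.N := (q c).codRestrict _ fun d => (mem_N c).2 ⟨d, rfl⟩

theorem f_surj : Function.Surjective (f c) := fun n => by
  obtain ⟨d, hd⟩ := (mem_N c).1 n.2
  exact ⟨d, Subtype.ext hd⟩

theorem f_single [DecidableEq ι] (i : ι) (x : X) : f c (1, Pi.mulSingle i x) = ⟨c.e i x, c.e_mem i x⟩ :=
  Subtype.ext ((q_apply c _).trans (by rw [pr_single]; exact one_mul _))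

theorem f_act [c.N.Normal] (g : G) (d : center G × (ι → X)) : MulAut.conjNormal g (f c d) = f c (act c g d) :=
  Subtype.ext (q_act c g d).symm

theorem conj_e [c.N.Normal] (g : G) (i : ι) (x : X) :
    MulAut.conjNormal g (⟨c.e i x, c.e_mem i x⟩ : c.N) = ⟨c.e (c.π g i) (c.a g i x), c.e_mem _ _⟩ :=
  Subtype.ext (c.ha g i x)

variable [Finite X] [Finite G]

theorem ker_f (hp : p.Prime) (hX : IsQuasisimple X) (h1 : ¬ p ∣ Nat.card (center X)) (h2 : ¬ p ∣ Nat.card (center G)) :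
    ¬ p ∣ Nat.card (f c).ker := fun k => by
  have : Fact p.Prime := ⟨hp⟩
  obtain ⟨d, hd⟩ := exists_prime_orderOf_dvd_card' p k
  have h3 : q c d = 1 := congrArg Subtype.val (MonoidHom.mem_ker.1 d.2)
  have h4 : ∀ i, d.1.2 i ∈ center X := fun i => by
    have h5 := a_q c (noncomm hX) d i
    rw [h3, a_one] at h5
    exact MK.H.conj_eq_one.1 h5.symm
  have h5 : d.1 ^ (Nat.card (center G) * Nat.card (center X)) = 1 := by
    refine Prod.ext ?_ (funext fun i => ?_)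
    · rw [Prod.pow_fst, pow_mul, pow_card_eq_one', one_pow, Prod.fst_one]
    · rw [Prod.pow_snd, Pi.pow_apply, mul_comm, pow_mul]
      have h6 : d.1.2 i ^ Nat.card (center X) = 1 :=
        congrArg Subtype.val (pow_card_eq_one' (x := (⟨_, h4 i⟩ : center X)))
      rw [h6, one_pow]
      rfl
  have h6 := orderOf_dvd_of_pow_eq_one h5
  rw [Subgroup.orderOf_coe, hd] at h6
  exact (hp.dvd_mul.1 h6).elim h2 h1

/-- the family `ϑ` belongs to the character `ψ` of `N` -/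
structure Fam (μ : center G → ℂ) (ϑ : ι → X → ℂ) (ψ : c.N → ℂ) : Prop where
  hμ : IsIrrCharacter _ μ
  hϑ : ∀ i, IsIrrCharacter X (ϑ i)
  hψ : IsIrrCharacter _ ψ
  eq : ∀ d, ψ (f c d) = th μ ϑ d

variable {c} {μ : center G → ℂ} {ϑ ϑ' : ι → X → ℂ} {ψ : c.N → ℂ}

theorem Fam.val (h : Fam c μ ϑ ψ) (i : ι) (x : X) : ψ ⟨c.e i x, c.e_mem i x⟩ * ϑ i 1 = ϑ i x * ψ 1 := by
  classical
  rw [← f_single, h.eq, th_single, ← h.eq, map_one]

theorem Fam.div (h : Fam c μ ϑ ψ) (i : ι) (x : X) : ψ ⟨c.e i x, c.e_mem i x⟩ / ψ 1 = ϑ i x / ϑ i 1 := by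
  rw [div_eq_div_iff (isIrr_apply_one_ne_zero h.hψ) (isIrr_apply_one_ne_zero (h.hϑ i)), h.val]

theorem exists_fam (hψ : IsIrrCharacter _ ψ) : ∃ μ ϑ, Fam c μ ϑ ψ := by
  obtain ⟨μ, ϑ, h1, h2, h3⟩ := exists_th (isIrr_comp (f c) (f_surj c) hψ)
  exact ⟨μ, ϑ, h1, h2, hψ, fun d => congrFun h3 d⟩

variable [c.N.Normal] [Fintype c.N] {B : Set (IrrCharacter G)}

/-- `ψ` lies under a member of `B` -/
def Un (B : Set (IrrCharacter G)) (ψ : c.N → ℂ) : Prop :=
  ∃ χ ∈ B, classInner (fun n : c.N => (χ : G → ℂ) n) ψ ≠ 0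

/-- change of the family inside the blocks -/
theorem Fam.change (hM : IsPModular p M) (hk : ¬ p ∣ Nat.card (f c).ker) (hB : IsPBlock M B) (h : Fam c μ ϑ ψ)
    (hu : Un B ψ) (h' : ∀ i, IsIrrCharacter X (ϑ' i)) (hs : ∀ i, SameBlock M (ϑ i) (ϑ' i)) :
    ∃ ψ', Fam c μ ϑ' ψ' ∧ Un B ψ' := by
  have : Fact p.Prime := ⟨hM.1⟩
  have := isPrime_of_isPModular hM
  have := Fintype.ofFinite G
  obtain ⟨ψ', h1, h2, h3⟩ := desc hM (f c) (f_surj c) hk h.hψ (th_irr h.hμ h')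
    (by rw [funext h.eq]; exact th_same hM h.hμ h.hϑ h' hs)
  obtain ⟨χ, hχ, h4⟩ := hu
  exact ⟨ψ', ⟨h.hμ, h', h1, h2⟩, S4432.result p M hM c.N B hB (blockOf M ψ) ⟨⟨ψ, h.hψ⟩, rfl⟩
    ⟨χ, hχ, ⟨ψ, h.hψ⟩, fun g => by rw [sub_self]; exact memLocalIdeal_zero, h4⟩ ⟨ψ', h1⟩ h3⟩

theorem Fam.avg [Fintype G] (h : Fam c μ ϑ ψ) {χ : IrrCharacter G}
    (hχ : classInner (fun n : c.N => (χ : G → ℂ) n) ψ ≠ 0) (i : ι) (x : X) :
    (Fintype.card G : ℂ) * ((χ : G → ℂ) (c.e i x) / (χ : G → ℂ) 1) =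
      ∑ g : G, ϑ (c.π g i) (c.a g i x) / ϑ (c.π g i) 1 := by
  refine (Cp.avg c.N χ h.hψ hχ ⟨c.e i x, c.e_mem i x⟩).trans (Finset.sum_congr rfl fun g _ => ?_)
  rw [conj_e, h.div]

/-- faithfulness on the centre -/
theorem Fam.faith (h : Fam c μ ϑ ψ) (hu : Un B ψ)
    (hf : ∀ χ ∈ B, ∀ z ∈ center G, (χ : G → ℂ) z = (χ : G → ℂ) 1 → z = 1) (i : ι) {z : X} (hz : z ∈ center X)
    (h1 : ϑ i z = ϑ i 1) : z = 1 := by
  have := Fintype.ofFinite G
  obtain ⟨χ, hχ, h2⟩ := hu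
  have h3 := Cp.avg c.N χ h.hψ h2 ⟨c.e i z, c.e_mem i z⟩
  have h4 : ∀ g : G, MulAut.conjNormal g (⟨c.e i z, c.e_mem i z⟩ : c.N) = ⟨c.e i z, c.e_mem i z⟩ := fun g =>
    Subtype.ext (show g * c.e i z * g⁻¹ = c.e i z by rw [mem_center_iff.1 (c.cen i z hz) g, mul_inv_cancel_right])
  simp only [h4, h.div, h1, div_self (isIrr_apply_one_ne_zero (h.hϑ i)), Finset.sum_const, Finset.card_univ,
    nsmul_eq_mul] at h3
  have h5 := mul_left_cancel₀ (Nat.cast_ne_zero.2 Fintype.card_ne_zero) h3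
  rw [div_eq_one_iff_eq (isIrr_apply_one_ne_zero χ.2)] at h5
  exact c.inj i ((hf χ hχ _ (c.cen i z hz) h5).trans (map_one _).symm)

omit [c.N.Normal] [Fintype c.N] in
/-- sums over the stabiliser of a copy -/
theorem sum_stab [Fintype G] [DecidableEq ι] (i : ι) : ∃ k : ℕ, k ≠ 0 ∧ ∀ F : MulAut X → ℂ,
    ∑ g : G with c.π g i = i, F (c.a g i) = k * ∑ᶠ α : Γ, F α := by
  classical
  have := Fintype.ofFinite Γ
  let St : Subgroup G := (MulAction.stabilizer (Equiv.Perm ι) i).comap c.π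
  let b : St →* Γ := MonoidHom.mk' (fun u => ⟨c.a u i, c.mem _ _⟩) fun u v => Subtype.ext (by
    show c.a ((u * v : St) : G) i = c.a u i * c.a v i
    rw [coe_mul, a_mul, show c.π v i = i from v.2])
  have hb : Function.Surjective b := fun α => by
    obtain ⟨g, h1, h2⟩ := c.onto i i α.1 α.2
    exact ⟨⟨g, h1⟩, Subtype.ext h2⟩
  refine ⟨(Finset.univ.filter fun g : St => b g = 1).card, Finset.card_ne_zero.2 ⟨1, by simp⟩, fun F => ?_⟩
  rw [finsum_eq_sum_of_fintype, Finset.sum_subtype (p := fun g => g ∈ St) _ (fun g => by simp [St]),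
    ← Finset.sum_fiberwise Finset.univ b, Finset.mul_sum]
  refine Finset.sum_congr rfl fun α _ => ?_
  rw [Finset.sum_congr rfl (g := fun _ => F α) fun g hg => by
    rw [← (Finset.mem_filter.1 hg).2]; rfl, Finset.sum_const, nsmul_eq_mul,
    MonoidHom.card_fiber_eq_of_mem_range b (hb α) ⟨1, map_one b⟩]

/-- the blocks of the components satisfy `One` -/
theorem Fam.one (hM : IsPModular p M) (hk : ¬ p ∣ Nat.card (f c).ker) (hB : IsPBlock M B) (hR : R1 p B)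
    (h : Fam c μ ϑ ψ) (hu : Un B ψ) (i : ι) : One p Γ (blockOf M (ϑ i)) := by
  classical
  have := isPrime_of_isPModular hM
  have := Fintype.ofFinite G
  obtain ⟨k, hk0, hs⟩ := sum_stab (c := c) i
  have key : ∀ θ ∈ blockOf M (ϑ i), ∃ χ ∈ B, ∀ x, (Fintype.card G : ℂ) * ((χ : G → ℂ) (c.e i x) / (χ : G → ℂ) 1) =
      k * ((∑ᶠ α : Γ, θ.1 (α.1 x)) / θ.1 1) +
        ∑ g : G with ¬ c.π g i = i, ϑ (c.π g i) (c.a g i x) / ϑ (c.π g i) 1 := by
    intro θ hθ
    obtain ⟨ψ', h1, χ, hχ, h2⟩ := h.change (ϑ' := Function.update ϑ i θ.1) hM hk hB hu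
      (fun j => by
        by_cases e : j = i
        · rw [e, Function.update_self]; exact θ.2
        · rw [Function.update_of_ne e]; exact h.hϑ j)
      fun j => by
        by_cases e : j = i
        · rw [e, Function.update_self]; exact hθ
        · rw [Function.update_of_ne e]
          exact fun g => by rw [sub_self]; exact memLocalIdeal_zero
    refine ⟨χ, hχ, fun x => ?_⟩
    rw [h1.avg h2, ← Finset.sum_filter_add_sum_filter_not Finset.univ fun g => c.π g i = i, ← mul_div_assoc,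
      ← hs fun α => θ.1 (α x), Finset.sum_div]
    congr 1
    · exact Finset.sum_congr rfl fun g hg => by rw [(Finset.mem_filter.1 hg).2, Function.update_self]
    · exact Finset.sum_congr rfl fun g hg => by rw [Function.update_of_ne (Finset.mem_filter.1 hg).2]
  intro θ hθ θ' hθ' x hx
  obtain ⟨χ, hχ, h1⟩ := key θ hθ
  obtain ⟨χ', hχ', h2⟩ := key θ' hθ'
  have h3 := hR χ hχ χ' hχ' (c.e i x) (by unfold IsPRegular; rwa [orderOf_injective _ (c.inj i)])
  rw [← div_eq_div_iff (isIrr_apply_one_ne_zero χ.2) (isIrr_apply_one_ne_zero χ'.2)] at h3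
  have h4 := h1 x
  rw [h3, h2 x, add_left_inj] at h4
  exact (div_eq_div_iff (isIrr_apply_one_ne_zero θ.2) (isIrr_apply_one_ne_zero θ'.2)).1
    (mul_left_cancel₀ (Nat.cast_ne_zero.2 hk0) h4.symm)

end Cfsg.Agent.OM.Cp
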