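import Cfsg.Agent.OM.Defs
import Cfsg.Agent.HZ.Red.Hat
import Cfsg.Agent.H699.IBrGen
import Cfsg.Agent.CharactersDeep.MaxInduced

/-!
# OM (S4894): covers with a kernel of order prime to `p` (helper75)
-/

set_option autoImplicit false

namespace Cfsg.Agent.OM

open Cfsg Subgroup IsLocalRing Cfsg.Agent.H657 Cfsg.Agent.H592.Har Cfsg.Agent.ODD.Red Cfsg.Agent.Characters
  Cfsg.Agent.Characters.Core Cfsg.Agent.H699.IBrLift

namespace Cov

variable {p : ℕ} {T Δ : Type} [Group T] [Group Δ] [Finite Δ] {N : Subgroup T} {θ : N → ℂ} {π : Δ →* T} {ι : N →* Δ}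
  {Θ : Δ → ℂ}

/-- the common end -/
theorem cover_of (hp : p.Prime) (h1 : Function.Surjective π) (h2 : π.ker ≤ center Δ) (h3 : ∀ n, π (ι n) = n)
    (h4 : ι.range.Normal) (h5 : IsIrrCharacter Δ Θ) (h6 : ∀ n, Θ (ι n) = θ n) {b : ℕ} (hb : ¬ p ∣ b)
    (h7 : ∀ z ∈ π.ker, Θ (z ^ b) = Θ 1) :
    ∃ (E : Type) (_ : Group E) (_ : Finite E) (C : Cover p N θ E), ∀ x, ∃ y, C.ψ x = Θ y := by
  have hc := isIrr_isCharacter h5
  let K : Subgroup Δ :=
    { carrier := {z | z ∈ π.ker ∧ Θ z = Θ 1}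
      mul_mem' := fun {x y} hx hy => ⟨mul_mem hx.1 hy.1, (apply_mul_of_ker hc hx.2 y).trans hy.2⟩
      one_mem' := ⟨one_mem _, rfl⟩
      inv_mem' := fun {x} hx => ⟨inv_mem hx.1, by rw [← apply_mul_of_ker hc hx.2 x⁻¹, mul_inv_cancel]⟩ }
  have hK : K.Normal := ⟨fun x hx g => by rwa [mem_center_iff.1 (h2 hx.1) g, mul_inv_cancel_right]⟩
  have hs := QuotientGroup.mk'_surjective K
  obtain ⟨ψ, k1, k2⟩ := exists_quot (QuotientGroup.mk' K) hs h5 fun z hz => (QuotientGroup.ker_mk' K ▸ hz : z ∈ K).2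
  refine ⟨Δ ⧸ K, inferInstance, inferInstance, ⟨QuotientGroup.lift K π fun x hx => hx.1, (QuotientGroup.mk' K).comp ι, ψ,
    fun g => ?_, fun x hx => ?_, fun h => ?_, h3, ?_, k1, fun n => (k2 _).trans (h6 n), fun x hx => ?_⟩, fun x => ?_⟩
  · obtain ⟨x, rfl⟩ := h1 g
    exact ⟨x, rfl⟩
  · obtain ⟨x, rfl⟩ := hs x
    refine mem_center_iff.2 fun y => ?_
    obtain ⟨y, rfl⟩ := hs y
    rw [← map_mul, ← map_mul, mem_center_iff.1 (h2 hx) y]
  · have := Fact.mk hp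
    obtain ⟨⟨x, hx⟩, k⟩ := exists_prime_orderOf_dvd_card' p h
    obtain ⟨x, rfl⟩ := hs x
    refine hb (k ▸ orderOf_dvd_of_pow_eq_one (Subtype.ext ((map_pow _ x b).symm.trans ?_)))
    exact (QuotientGroup.eq_one_iff _).2 ⟨pow_mem (show x ∈ π.ker from hx) b, h7 x hx⟩
  · rw [← MonoidHom.map_range]
    exact h4.map _ hs
  · obtain ⟨x, rfl⟩ := hs x
    obtain ⟨c, k3, k4, -⟩ := exists_central h5 (h2 hx)
    rw [k2, ← mul_one x, k3]
    refine mul_ne_zero (fun h => ?_) (isIrr_apply_one_ne_zero h5)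
    have k5 := k4 _ pow_card_eq_one'
    rw [h, zero_pow Nat.card_pos.ne'] at k5
    exact zero_ne_one k5
  · obtain ⟨x, rfl⟩ := hs x
    exact ⟨x, k2 x⟩

omit [Finite Δ] in
theorem irr_res (hi : Function.Injective ι) (hθ : IsIrrCharacter N θ) (h6 : ∀ n, Θ (ι n) = θ n) :
    IsIrrCharacter ι.range fun y : ι.range => Θ y := by
  have h : ∀ y : ι.range, ι ((MonoidHom.ofInjective hi).symm y) = y := fun y => MonoidHom.apply_ofInjective_symm hi y
  rw [show (fun y : ι.range => Θ y) = fun y => θ ((MonoidHom.ofInjective hi).symm.toMonoidHom y) from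
    funext fun y => by rw [← h y, h6]; rfl]
  exact isIrr_comp' _ (MonoidHom.ofInjective hi).symm.surjective hθ

/-- an extension of a lift is a lift -/
theorem lf_up {M : Ideal AlgInt} {V : ValuationSubring ℂ} (hM : IsPModular p M) (hV : Above M V) {L : Type} [Group L]
    [Finite L] {s : L →* Δ} (hi : Function.Injective s) (h5 : IsIrrCharacter Δ Θ) {j : IBr V L}
    (hj : ∀ n, IsPRegular p n → Θ (s n) = phi p j n) :
    ∃ k : IBr V Δ, (∀ x, IsPRegular p x → Θ x = phi p k x) ∧ ∀ n, phi p k (s n) = phi p j n := by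
  classical
  have := Fact.mk hM.1
  have := hV.charP hM
  have hr : ∀ n, IsPRegular p (s n) ↔ IsPRegular p n := fun n => by rw [IsPRegular, IsPRegular, orderOf_injective s hi]
  have h1 : ∀ {X : Type} [Group X], IsPRegular p (1 : X) := by
    intro X _
    rw [IsPRegular, orderOf_one]
    exact hM.1.not_dvd_one
  obtain ⟨m, idx, -, hd⟩ := exists_decomp hM hV h5
  choose r jdx hs using fun l => exists_sum_bc (p := p) ((idx l).rep.comp s)
  have h2 : ∀ l n, IsPRegular p n → phi p (idx l) (s n) = ∑ t, phi p (jdx l t) n := fun l n hn =>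
    (phi_of _ ((hr n).2 hn)).trans (hs l n hn)
  obtain ⟨l, t, h3⟩ : ∃ l t, jdx l t = j := by
    by_contra h
    push Not at h
    refine (linearIndependent_phi (V := V) (G := L) (p := p)).notMem_span_image (s := {j}ᶜ) (x := j) (fun h => h rfl) ?_
    have h3 : phi p j = ∑ l, ∑ t, phi p (jdx l t) := by
      funext n
      simp only [Finset.sum_apply]
      by_cases hn : IsPRegular p n
      · rw [← hj n hn, hd _ ((hr n).2 hn)]
        exact Finset.sum_congr rfl fun l _ => h2 l n hn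
      · simp only [phi_of_not _ hn, Finset.sum_const_zero]
    rw [h3]
    exact Submodule.sum_mem _ fun l _ => Submodule.sum_mem _ fun t _ => Submodule.subset_span ⟨_, h l t, rfl⟩
  have h4 : j.deg = ∑ l, (idx l).deg := by
    have h := hj 1 h1
    rw [map_one, hd 1 h1] at h
    simp only [phi_one] at h
    exact_mod_cast h.symm
  have h6 : (idx l).deg = ∑ t, (jdx l t).deg := by
    have h := h2 l 1 h1
    rw [map_one] at h
    simp only [phi_one] at h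
    exact_mod_cast h
  have h7 : ∀ l', l' = l := fun l' => by
    by_contra h
    have h8 : (idx l).deg + (idx l').deg ≤ ∑ l, (idx l).deg := by
      rw [← Finset.sum_pair (f := fun l => (idx l).deg) (Ne.symm h)]
      exact Finset.sum_le_sum_of_subset (Finset.subset_univ _)
    have h9 := Finset.single_le_sum (f := fun t => (jdx l t).deg) (fun _ _ => Nat.zero_le _) (Finset.mem_univ t)
    have := deg_pos (idx l')
    simp only [h3] at h9
    omega
  have h8 : ∀ x, IsPRegular p x → Θ x = phi p (idx l) x := fun x hx => by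
    rw [hd x hx, Fintype.sum_eq_single l fun l' h => absurd (h7 l') h]
  refine ⟨idx l, h8, fun n => ?_⟩
  by_cases hn : IsPRegular p n
  · rw [← h8 _ ((hr n).2 hn), hj n hn]
  · rw [phi_of_not _ hn, phi_of_not _ (mt (hr n).1 hn)]

theorem exists_inv (hp : p.Prime) (a : ℕ) {m : ℕ} (hm : ¬ p ∣ m) :
    ∃ τ : ℂ ≃+* ℂ, (∀ z : ℂ, z ^ m = 1 → τ z = z) ∧ ∀ z : ℂ, z ^ p ^ a = 1 → τ z * z = 1 := by
  have h0 : m ≠ 0 := fun h => hm (h ▸ dvd_zero p)
  obtain ⟨j, h1, h2⟩ := Nat.chineseRemainder ((hp.coprime_iff_not_dvd.2 hm).pow_left (a + 1)) (p ^ (a + 1) - 1) 1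
  have h3 : p ^ (a + 1) ∣ j + 1 := by
    have h := h1.add_right 1
    rw [Nat.sub_add_cancel (Nat.one_le_pow _ _ hp.pos)] at h
    exact (Nat.modEq_zero_iff_dvd).1 (h.trans (Nat.modEq_zero_iff_dvd.2 dvd_rfl))
  obtain ⟨σ, hσ⟩ := GaloisBasic.exists_ringEquiv_pow (n := p ^ a * m) (m := j) (mul_ne_zero (pow_ne_zero _ hp.ne_zero) h0)
    (Nat.Coprime.mul_right ((hp.coprime_iff_not_dvd.2 fun h => hp.not_dvd_one
      ((Nat.dvd_add_right h).1 ((dvd_pow_self p a.succ_ne_zero).trans h3))).symm.pow_right a) (by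
        rw [Nat.Coprime, h2.gcd_eq, Nat.gcd_one_left]))
  refine ⟨σ, fun x hx => ?_, fun z hz => ?_⟩
  · rw [hσ x (by rw [mul_comm, pow_mul, hx, one_pow]), pow_eq_pow_of_modEq h2 hx, pow_one]
  · obtain ⟨c, hc⟩ := (pow_dvd_pow p a.le_succ).trans h3
    rw [hσ z (by rw [pow_mul, hz, one_pow]), ← pow_succ, hc, pow_mul, hz, one_pow]

theorem eq_one_of_odd {z : ℂ} {q : ℕ} (hq : Odd q) (h1 : z ^ q = 1) (h2 : z * z = 1) : z = 1 := by
  obtain ⟨k, rfl⟩ := hq
  rwa [pow_succ, pow_mul, pow_two, h2, one_pow, one_mul] at h1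

end Cov

open Cov

/-- **the cover from an extension** -/
theorem boxCovExt : BoxCovExt := by
  rintro p hp T _ _ N _ θ hθ hinv P h hP ⟨Ψ, hΨ, hΨθ⟩
  classical
  obtain ⟨Δ, _, _, π, ι, Θ, h1, h2, -, h3, h4, h5, h6⟩ := HZ.exists_hat N hθ hinv
  have hi : Function.Injective ι := fun a b h => Subtype.ext (by rw [← h3, ← h3, h])
  have hR : ι.range ≤ P.comap π := by
    rintro _ ⟨n, rfl⟩
    rw [mem_comap, h3]
    exact h n.2
  let f : P.comap π →* P := (π.comp (P.comap π).subtype).codRestrict P fun x => x.2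
  let s : N →* P.comap π := ι.codRestrict _ fun n => hR ⟨n, rfl⟩
  have hs : Function.Injective s := fun a b h => hi (congrArg Subtype.val h)
  have h7 : ∀ n, Ψ (f (s n)) = θ n := fun n => by rw [← hΨθ]; exact congrArg Ψ (Subtype.ext (h3 n))
  have h8 := irr_res (Θ := fun x => Ψ (f x)) hs hθ h7
  have h9 : ∀ x : P.comap π, x ∈ s.range ↔ (x : Δ) ∈ ι.range := fun x =>
    ⟨fun ⟨n, h⟩ => ⟨n, congrArg Subtype.val h⟩, fun ⟨n, h⟩ => ⟨n, Subtype.ext h⟩⟩
  have : s.range.Normal := ⟨fun x hx g => (h9 _).2 (h4.conj_mem _ ((h9 x).1 hx) g)⟩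
  obtain ⟨l, l1, l2⟩ := exists_lin s.range
    (CharactersDeep.MaxInduced.isIrr_of_comp s.range.subtype (isCharacter_comp' f hΨ) h8) h8
    (HZ.isIrr_of_le hR (isIrr_isCharacter h5) (irr_res hi hθ h6)) (by
      rintro ⟨_, n, rfl⟩
      exact (h6 n).trans (h7 n).symm)
  obtain ⟨a, b, hb, hab⟩ := Nat.exists_eq_pow_mul_and_not_dvd (Nat.card_pos (α := Δ)).ne' p hp.ne_one
  obtain ⟨u, v, hu⟩ : ∃ u, p ^ a ∣ P.index * u + 1 := by
    obtain ⟨u, -, hu⟩ := Nat.exists_mul_mod_eq_of_coprime (p ^ a - 1)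
      ((hp.coprime_iff_not_dvd.2 hP).symm.pow_right a) (pow_ne_zero a hp.ne_zero)
    refine ⟨u, (Nat.modEq_zero_iff_dvd).1 ((Nat.ModEq.add_right 1 hu).trans ?_)⟩
    rw [Nat.sub_add_cancel (Nat.one_le_pow _ _ hp.pos)]
    exact Nat.modEq_zero_iff_dvd.2 dvd_rfl
  have h10 : ∀ n, MonoidHom.transfer l (ι n) = 1 := fun n => by
    have := Fintype.ofFinite (Quotient (MulAction.orbitRel (zpowers (ι n)) (Δ ⧸ P.comap π)))
    rw [MonoidHom.transfer_eq_prod_quotient_orbitRel_zpowers_quot]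
    exact Finset.prod_eq_one fun q _ => l1 _ ((h9 _).2 (h4.conj_mem' _ (pow_mem (show ι n ∈ ι.range from ⟨n, rfl⟩) _) _))
  obtain ⟨E, _, _, C, -⟩ := cover_of hp h1 h2 h3 h4 (isIrr_lin_mul (MonoidHom.transfer l ^ u) h5)
    (fun n => by rw [MonoidHom.pow_apply, h10, one_pow, Units.val_one, one_mul, h6]) hb fun z hz => by
      have k1 : z ^ b ∈ π.ker := pow_mem hz b
      have k2 : z ^ b ∈ P.comap π := ker_le_comap π P k1
      have k3 : MonoidHom.transfer l (z ^ b) = l ⟨z ^ b, k2⟩ ^ P.index := by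
        rw [MonoidHom.transfer_eq_pow _ (z ^ b) fun k g _ => by
          rw [mul_assoc, ← mem_center_iff.1 (pow_mem (h2 k1) k) g, inv_mul_cancel_left], ← map_pow,
          ← index_comap_of_surjective P h1]
        rfl
      have k4 : l ⟨z ^ b, k2⟩ ^ p ^ a = 1 := by
        rw [← map_pow, ← l.map_one]
        exact congrArg l (Subtype.ext (by rw [coe_pow, ← pow_mul, mul_comm, ← hab, pow_card_eq_one', coe_one]))
      have k5 : Θ (z ^ b) = l ⟨z ^ b, k2⟩ * Θ 1 := by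
        rw [l2 ⟨z ^ b, k2⟩, show f ⟨z ^ b, k2⟩ = f (s 1) from Subtype.ext (k1.trans (h3 1).symm), h7, ← h6, map_one]
      rw [MonoidHom.pow_apply, k3, k5, map_one, ← mul_assoc, ← Units.val_mul, ← pow_mul, ← pow_succ, hu, pow_mul, k4,
        one_pow]
  exact ⟨E, _, ‹_›, ⟨C⟩⟩

/-- **the cover for odd `p`** -/
theorem boxCovOdd_of (hG : BoxGal) : BoxCovOdd := by
  rintro p M V hM hV h2p T _ _ N _ θ hθ hinv ⟨j, hj⟩ ⟨n, hn, hθn⟩
  have hp := hM.1
  obtain ⟨Δ, _, _, π, ι, Θ, h1, h2, -, h3, h4, h5, h6⟩ := HZ.exists_hat N hθ hinv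
  have hi : Function.Injective ι := fun a b h => Subtype.ext (by rw [← h3, ← h3, h])
  obtain ⟨a, b, hb, hab⟩ := Nat.exists_eq_pow_mul_and_not_dvd (Nat.card_pos (α := Δ)).ne' p hp.ne_one
  have hm : ¬ p ∣ n * b := fun h => (hp.dvd_mul.1 h).elim hn hb
  have h0 : n * b ≠ 0 := fun h => hm (h ▸ dvd_zero p)
  have ho : Odd (p ^ a) := (hp.odd_of_ne_two h2p).pow
  have key : ∀ {Φ : Δ → ℂ}, IsIrrCharacter Δ Φ → (∀ x, Φ (ι x) = θ x) → ∀ σ : ℂ ≃+* ℂ, (∀ z : ℂ, z ^ (n * b) = 1 → σ z = z) →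
      ∃ μ : Δ →* ℂˣ, (∀ x, μ (ι x) = 1) ∧ (∀ g, σ (Φ g) = μ g * Φ g) ∧ ∀ g, (μ g : ℂ) ^ p ^ a = 1 := by
    intro Φ k1 k2 σ hσ
    obtain ⟨μ, k3, k4⟩ := exists_lin ι.range k1 (irr_res hi hθ k2) (GaloisIrr.isIrr_map σ k1) (by
      rintro ⟨_, x, rfl⟩
      change σ (Φ (ι x)) = Φ (ι x)
      rw [k2]
      refine fixed_of_mem_adjoin ?_ (hθn x)
      rintro _ rfl
      exact hσ _ (by rw [pow_mul, exp_pow n (left_ne_zero_of_mul h0), one_pow]))
    refine ⟨μ, fun x => k3 _ ⟨x, rfl⟩, k4, fun g => ?_⟩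
    obtain ⟨k, k5, k6⟩ := lf_up hM hV hi k1 fun x hx => (k2 x).trans (hj x hx)
    obtain ⟨x, k7, k8, k9⟩ := (hG p M V hM hV N Δ ι hi k j k6).1 ((g ^ p ^ a : Δ) : Δ ⧸ ι.range) fun h => hb (h.trans
      (orderOf_dvd_of_pow_eq_one (by rw [← QuotientGroup.mk_pow, ← pow_mul, ← hab, pow_card_eq_one', QuotientGroup.mk_one])))
    have k10 : x ^ (n * b) = 1 := orderOf_dvd_iff_pow_eq_one.1 (Dvd.dvd.mul_left
      (((hp.coprime_iff_not_dvd.2 k7).symm.pow_right a).dvd_of_dvd_mul_left (hab ▸ orderOf_dvd_natCard x)) n)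
    have k11 := k4 x
    rw [GaloisBasic.map_apply (σ : ℂ →+* ℂ) (m := 1) (fun z hz => (hσ z hz).trans (pow_one z).symm) (isIrr_isCharacter k1) h0
      k10 |> (show σ (Φ x) = _ from ·), pow_one, right_eq_mul₀ (k5 x k7 ▸ k9)] at k11
    have k12 := k3 _ (QuotientGroup.eq.1 k8)
    rw [map_mul, map_inv, inv_mul_eq_one] at k12
    rw [← Units.val_pow_eq_pow_val, ← map_pow, ← k12, k11]
  obtain ⟨τ, t1, t2⟩ := exists_inv hp a hm
  obtain ⟨μ, m1, m2, m3⟩ := key h5 h6 τ t1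
  obtain ⟨c, hc⟩ := id ho
  have h7 := isIrr_lin_mul (μ ^ (c + 1)) h5
  set Φ : Δ → ℂ := fun x => ((μ ^ (c + 1)) x : ℂ) * Θ x with hΦ
  have h8 : ∀ x, Φ (ι x) = θ x := fun x => by
    simp only [hΦ, MonoidHom.pow_apply, m1, one_pow, Units.val_one, one_mul, h6]
  have h9 : ∀ g, τ (Φ g) = Φ g := fun g => by
    have k1 := t2 _ (m3 g)
    have k2 := m3 g
    rw [hc] at k2
    simp only [hΦ, MonoidHom.pow_apply, Units.val_pow_eq_pow_val, map_mul, map_pow, m2]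
    rw [eq_inv_of_mul_eq_one_left k1, ← mul_assoc, inv_pow, inv_mul_eq_div, (div_eq_iff (pow_ne_zero _ (μ g).ne_zero)).2]
    linear_combination (-(μ g : ℂ)) * k2
  obtain ⟨E, _, _, C, hC⟩ := cover_of hp h1 h2 h3 h4 h7 h8 hb fun z hz => by
    obtain ⟨d, k1, k2, -⟩ := exists_central h7 (h2 (pow_mem hz b))
    have k3 := k2 (p ^ a) (by rw [← pow_mul, mul_comm, ← hab, pow_card_eq_one'])
    have k4 := k1 1
    rw [mul_one] at k4
    have k5 := h9 (z ^ b)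
    rw [k4, map_mul, h9, mul_left_inj' (isIrr_apply_one_ne_zero h7)] at k5
    rw [k4, eq_one_of_odd ho k3 (by rw [← t2 d k3, k5]), one_mul]
  refine ⟨E, _, ‹_›, C, n * b, hm, fun x => ?_⟩
  obtain ⟨g, hg⟩ := hC x
  rw [hg]
  refine (mem_cyc_iff h0 (GaloisBasic.isIntegral_apply (isIrr_isCharacter h7) g).tower_top.isAlgebraic).2 fun σ hσ => ?_
  obtain ⟨ν, -, n2, n3⟩ := key h7 h8 σ hσ
  obtain ⟨s, -, hs⟩ := GaloisBasic.exists_pow_of_ringEquiv (G := Δ) σ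
  have k1 : τ (σ (Φ g)) = σ (Φ g) := by rw [hs _ (isIrr_isCharacter h7), h9]
  by_cases h : Φ g = 0
  · rw [h, map_zero]
  · rw [n2, map_mul, h9, mul_left_inj' h] at k1
    rw [n2, eq_one_of_odd ho (n3 g) (by rw [← t2 _ (n3 g), k1]), one_mul]

end Cfsg.Agent.OM
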