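import Cfsg.Agent.OM.Red.Step
import Cfsg.Agent.OM.Red.Comp
import Cfsg.Agent.OM.Red.Cf
import Cfsg.Agent.H595.Count
import Cfsg.Agent.H699.IBrGen
import Cfsg.Agent.Blocks.PRegular
import Cfsg.Agent.CharactersDeep.Extraspecial
import Cfsg.Agent.Lib.MinNormal

/-!
# OM (S4894): the induction and the wording of the statement (helper8)

`omg_of : QS p M → OMg p M G` for all finite groups, `s4894_of : QSAll →` the statement.
-/

set_option autoImplicit false
set_option linter.unusedSectionVars false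

namespace Cfsg.Agent.OM

open Cfsg Subgroup Cfsg.Agent.H657 Cfsg.Agent.Characters.Core Cfsg.Agent.H608.BlockRank Cfsg.Agent.H699.IBrLift

universe u

variable {p : ℕ} {M : Ideal AlgInt} {V : ValuationSubring ℂ}

theorem prat_of_card {G : Type u} [Group G] [Finite G] (h : ¬ p ∣ Nat.card G) {χ : G → ℂ} (hχ : IsCharacter G χ) :
    PRat p χ :=
  ⟨_, h, fun _ => S4664.char_mem hχ Nat.card_pos.ne' dvd_rfl pow_card_eq_one'⟩

theorem lf_of_ndvd (hM : IsPModular p M) (hV : Above M V) {G : Type u} [Group G] [Finite G] (h : ¬ p ∣ Nat.card G)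
    {χ : G → ℂ} (hχ : IsIrrCharacter G χ) : Lf p V χ := by
  obtain ⟨i, hi⟩ := eq_phi hM hV h hχ
  exact ⟨i, fun x _ => congrFun hi x⟩

theorem cyc_center {G : Type u} [Group G] [Finite G] {f : G → ℂ} (hf : IsIrrCharacter G f)
    (h : ∀ z ∈ center G, f z = f 1 → z = 1) : IsCyclic (center G) := by
  obtain ⟨c, hc, -⟩ := CharactersDeep.Extraspecial.exists_central_hom hf
  refine isCyclic_of_injective_ringHom ((Units.coeHom ℂ).comp c) ((injective_iff_map_eq_one _).2 fun z hz => ?_)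
  have h1 := hc 1 z
  rw [one_mul, show (c z : ℂ) = 1 from hz, mul_one] at h1
  exact Subtype.ext (h z z.2 h1)

variable {G : Type} [Group G] [Finite G]

/-- the characters of a normal subgroup of order prime to `p` are good -/
theorem tri_of_ndvd (hM : IsPModular p M) (hV : Above M V) (N : Subgroup G) [N.Normal] (h : ¬ p ∣ Nat.card N)
    {θ : N → ℂ} (hθ : IsIrrCharacter N θ) : Tri p V N θ where
  irr := hθ
  lf := lf_of_ndvd hM hV h hθ
  sta := fun _ h1 n => h1 n (isPRegular_of_card h n)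
  rat := fun _ => prat_of_card h (isIrr_isCharacter hθ)
  ext := fun _ P hP h1 h2 => by
    have : Fact p.Prime := ⟨hM.1⟩
    let e : N.subgroupOf P ≃* N := subgroupOfEquivOfLe hP
    have h3 : IsPGroup p (P ⧸ N.subgroupOf P) := fun y => by
      obtain ⟨y, rfl⟩ := QuotientGroup.mk'_surjective _ y
      obtain ⟨k, hk⟩ := h1 y y.2
      exact ⟨k, by rw [← map_pow]; exact (QuotientGroup.eq_one_iff _).2 hk⟩
    obtain ⟨k, hk⟩ := h3.exists_card_eq
    obtain ⟨χ, h4, -⟩ := H595.Count.canon (N.subgroupOf P) (by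
      rw [Nat.card_congr e.toEquiv, index_eq_card, hk]
      exact ((hM.1.coprime_iff_not_dvd.2 h).pow_left k).symm)
      ⟨sub θ, isIrr_comp e.toMonoidHom e.surjective hθ⟩ fun g n => h2 g g.2 (e n)
    exact ⟨χ, isIrr_isCharacter χ.2, fun n => h4 (e.symm n)⟩

theorem ndvd_of_nil (hp : p.Prime) (h : ∀ K : Subgroup G, K.Normal → IsPGroup p K → K = ⊥) (N : Subgroup G)
    [N.Normal] (hN : ⁅N, N⁆ ≤ center G) : ¬ p ∣ Nat.card N := by
  have : Fact p.Prime := ⟨hp⟩
  have h1 : Group.IsNilpotent N := by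
    refine Subgroup.isNilpotent_of_ker_le_center (Abelianization.of (G := N)) fun x hx => ?_
    rw [Abelianization.ker_of] at hx
    have h2 : (x : G) ∈ ⁅N, N⁆ := by
      rw [← map_subtype_commutator]
      exact mem_map_of_mem _ hx
    exact mem_center_iff.2 fun y => Subtype.ext (mem_center_iff.1 (hN h2) y)
  obtain ⟨P⟩ : Nonempty (Sylow p N) := inferInstance
  have h2 : (P : Subgroup N).Normal := inferInstance
  have := P.characteristic_of_normal h2
  have h3 := h ((P : Subgroup N).map N.subtype) inferInstance (P.isPGroup'.map _)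
  rw [map_eq_bot_iff_of_injective _ N.subtype_injective] at h3
  have h4 := P.not_dvd_index
  rwa [h3, index_bot] at h4

theorem omg_step (hM : IsPModular p M) (hQ : QS p M) (G : Type) [Group G] [Finite G] (ih : IH p M (center G).index)
    (ih2 : ∀ (L : Type) [Group L] [Finite L], (center L).index ≤ (center G).index → Nat.card L < Nat.card G →
      OMg p M L) : OMg p M G := by
  intro B hB hR
  obtain ⟨V, hV⟩ := exists_above hM
  have hMp := Blocks.Local.isPrime_of_isPModular hM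
  have hpos : 0 < (center G).index := Nat.pos_of_ne_zero index_ne_zero_of_finite
  have := Fintype.ofFinite G
  have : Fact p.Prime := ⟨hM.1⟩
  by_cases hf : ∀ χ ∈ B, ∀ g, (χ : G → ℂ) g = (χ : G → ℂ) 1 → g = 1
  swap
  · push Not at hf
    obtain ⟨χ, hχ, g, hg, hg1⟩ := hf
    set K := H597.Base.ker (isIrr_isCharacter χ.2)
    have hs := QuotientGroup.mk'_surjective K
    obtain ⟨η, hη, h2⟩ := ODD.Red.exists_quot (QuotientGroup.mk' K) hs χ.2 fun z hz => by
      rw [QuotientGroup.ker_mk'] at hz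
      exact hz
    have h3 : (center G).map (QuotientGroup.mk' K) ≤ center (G ⧸ K) := by
      rintro _ ⟨z, hz, rfl⟩
      rw [mem_center_iff]
      intro w
      obtain ⟨x, rfl⟩ := hs w
      rw [← map_mul, ← map_mul, mem_center_iff.1 hz x]
    have h4 : 1 < Nat.card K := (one_lt_card_iff_ne_bot K).2 fun h => hg1 (mem_bot.1 (h ▸ (hg : g ∈ K)))
    exact step_quot hM hV hB hR _ hs hχ (η₁ := ⟨η, hη⟩) (fun g => (h2 g).symm)
      (ih2 (G ⧸ K) (Nat.le_of_dvd hpos ((index_dvd_of_le h3).trans (index_map_dvd _ hs))) (by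
        rw [card_eq_card_quotient_mul_card_subgroup K]
        exact (Nat.lt_mul_iff_one_lt_right Nat.card_pos).2 h4))
  obtain ⟨χ, hχ⟩ : ∃ χ, χ ∈ B := by
    obtain ⟨χ, rfl⟩ := hB
    exact ⟨χ, Blocks.Basic.mem_blockOf_self χ⟩
  by_cases hG : p ∣ Nat.card G
  swap
  · exact ⟨χ, hR.mn hM hV hB hχ (lf_of_ndvd hM hV hG χ.2), fun _ => prat_of_card hG (isIrr_isCharacter χ.2)⟩
  have hO : ∀ K : Subgroup G, K.Normal → IsPGroup p K → K = ⊥ := fun K _ hK => by
    obtain ⟨η, hη⟩ := Blocks.PRegular.exists_inflation_sameBlock hM K hK χ.2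
    refine (eq_bot_iff_forall K).2 fun k hk => hf ⟨_, isIrr_comp (QuotientGroup.mk' K) (QuotientGroup.mk'_surjective K) η.2⟩
      (isUnion_of_isPBlock hB χ _ hη hχ) k ?_
    exact congrArg (η : G ⧸ K → ℂ) ((QuotientGroup.eq_one_iff k).2 hk)
  have hZ : ¬ p ∣ Nat.card (center G) := ndvd_of_nil hM.1 hO _ (commutator_le_left _ _)
  have hT : center G < ⊤ := lt_top_iff_ne_top.2 fun h => hZ (by rwa [h, card_top])
  obtain ⟨N, ⟨hN, h1⟩, h2⟩ := (wellFounded_lt (α := Subgroup G)).has_min {K | K.Normal ∧ center G < K}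
    ⟨⊤, inferInstance, hT⟩
  have := Fintype.ofFinite N
  have ih' : IH p M (N.index + 1) := CfB.ih_mono ih (index_strictAnti h1)
  by_cases h3 : p ∣ Nat.card N
  · obtain ⟨X, _, _, Γ, ι, _, c, rfl, hS⟩ := boxCf p M hM.1 G N hN h1.le
      (fun K hK h4 h5 => or_iff_not_imp_left.2 fun h6 =>
        h5.eq_of_not_lt (h2 K ⟨hK, lt_of_le_of_ne h4 (Ne.symm h6)⟩))
      (fun h => ndvd_of_nil hM.1 hO N h h3) hZ (cyc_center χ.2 fun z _ => hf χ hχ z) h3 ih
    obtain ⟨θ, h4, ψ, h5, h6⟩ := boxComp p M V hM hV X Γ G ι c (hQ X) hS hZ B hB hR fun ψ hψ z _ => hf ψ hψ z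
    exact step_tri hM hV hB hR h4 h5 h6 ih'
  · obtain ⟨θ, h4, h5⟩ := H597.Base.exists_constituent (ψ := fun n : N => (χ : G → ℂ) n)
      (Characters.Clifford.isCharacter_restrict N (isIrr_isCharacter χ.2)) (isIrr_apply_one_ne_zero χ.2)
    exact step_tri hM hV hB hR (tri_of_ndvd hM hV N h3 h4) hχ h5 ih'

theorem ih_all (hM : IsPModular p M) (hQ : QS p M) (n : ℕ) : IH p M n := by
  induction n with
  | zero => exact fun _ _ _ h => absurd h (Nat.not_lt_zero _)
  | succ n ih =>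
    have key : ∀ (k : ℕ) (L : Type) [Group L] [Finite L], Nat.card L = k → (center L).index < n + 1 → OMg p M L := by
      intro k
      induction k using Nat.strong_induction_on with
      | _ k ih2 =>
      intro L _ _ hk h
      exact omg_step hM hQ L (fun K _ _ h1 => ih K (by omega)) fun K _ _ h1 h2 => ih2 _ (hk ▸ h2) K rfl (by omega)
    exact fun L _ _ h => key _ L rfl h

/-- **The reduction.** -/
theorem omg_of (hM : IsPModular p M) (hQ : QS p M) (G : Type u) [Group G] [Finite G] : OMg p M G := by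
  obtain ⟨L, _, ⟨e⟩⟩ := Lib.MinNormal.exists_type_zero_model G
  have : Finite L := Finite.of_equiv G e.symm.toEquiv
  intro B hB hR
  obtain ⟨V, hV⟩ := exists_above hM
  have hMp := Blocks.Local.isPrime_of_isPModular hM
  obtain ⟨χ, hχ⟩ : ∃ χ, χ ∈ B := by
    obtain ⟨χ, rfl⟩ := hB
    exact ⟨χ, Blocks.Basic.mem_blockOf_self χ⟩
  exact step_quot hM hV hB hR e.symm.toMonoidHom e.symm.surjective hχ
    (η₁ := ⟨_, isIrr_comp e.toMonoidHom e.surjective χ.2⟩) (fun g => congrArg (χ : G → ℂ) (e.apply_symm_apply g).symm)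
    (ih_all hM hQ _ L (Nat.lt_succ_self _))

theorem r1_of_rank {G : Type u} [Group G] [Finite G] (hp : p.Prime) {B : Set (IrrCharacter G)}
    (h : blockRank p B = 1) : R1 p B := by
  intro χ hχ ψ hψ x hx
  unfold blockRank at h
  have h0 : pRegularPart p (ψ : G → ℂ) ≠ 0 := fun e => isIrr_apply_one_ne_zero ψ.2 (by
    rw [← pReg_of (reg_one hp) (ψ : G → ℂ), pReg_eq, e]
    rfl)
  obtain ⟨c, hc⟩ := (finrank_eq_one_iff_of_nonzero' ⟨_, Submodule.subset_span ⟨ψ, hψ, rfl⟩⟩
    (fun e => h0 (congrArg Subtype.val e))).1 h ⟨_, Submodule.subset_span ⟨χ, hχ, rfl⟩⟩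
  have h1 : ∀ y, IsPRegular p y → (χ : G → ℂ) y = c * (ψ : G → ℂ) y := fun y hy => by
    rw [← pReg_of hy (χ : G → ℂ), ← pReg_of hy (ψ : G → ℂ), pReg_eq, pReg_eq]
    exact (congrFun (congrArg Subtype.val hc) y).symm
  rw [h1 x hx, h1 1 (reg_one hp)]
  ring

/-- **S4894 from the quasisimple box**, the wording of the statement. -/
theorem s4894_of (hQ : QSAll) {G : Type u} [Group G] [Finite G] (p : ℕ) (M : Ideal AlgInt) (hM : IsPModular p M)
    (B : Set (IrrCharacter G)) (hB : IsPBlock M B) (h1 : blockRank p B = 1) :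
    ∃ χ : IrrCharacter G, χ ∈ B ∧
      (∀ ψ : IrrCharacter G, ψ ∈ B → ∃ n : ℕ, pRegularPart p (ψ : G → ℂ) = n • pRegularPart p (χ : G → ℂ)) ∧
      (p ≠ 2 → (∃ n : ℕ, ¬ p ∣ n ∧ ∀ g : G, (χ : G → ℂ) g ∈
        IntermediateField.adjoin ℚ ({Complex.exp (2 * Real.pi * Complex.I / n)} : Set ℂ))) := by
  have hR := r1_of_rank hM.1 h1
  obtain ⟨χ, h2, h3⟩ := omg_of hM (hQ p M hM) G B hB hR
  refine ⟨χ, h2.1, fun ψ hψ => ?_, h3⟩
  obtain ⟨n, hn⟩ := h2.2 ψ hψ
  refine ⟨n, ?_⟩
  rw [← pReg_eq, ← pReg_eq, ← map_nsmul]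
  refine pReg_congr fun x hx => mul_right_cancel₀ (isIrr_apply_one_ne_zero χ.2) ?_
  rw [hR ψ hψ χ h2.1 x hx, Blocks.Basic.irr_one_eq_charDegree ψ.2, Blocks.Basic.irr_one_eq_charDegree χ.2, hn,
    Pi.smul_apply, nsmul_eq_mul, Nat.cast_mul]
  ring

end Cfsg.Agent.OM
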