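import Cfsg.Agent.OM.Red.Basic
import Cfsg.Agent.OM.Red.Gal
import Cfsg.Agent.OM.Red.Cov
import Cfsg.Agent.H658.KKL.FongTwo
import Cfsg.Agent.H525.L2.Ind
import Cfsg.Agent.CharDeep.CliffordCorr
import Cfsg.Agent.OddOrderCharacters.Clifford
import Cfsg.Agent.Characters.Clifford
import Cfsg.Agent.Blocks.Induced
import Cfsg.Agent.ODD.Red.Gal

/-!
# OM (S4894): the Clifford step (helper8)
-/

set_option autoImplicit false
set_option linter.unusedSectionVars false

namespace Cfsg.Agent.OM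

open Cfsg Subgroup Cfsg.Agent.H657 Cfsg.Agent.Characters.Core Cfsg.Agent.H592.Har Cfsg.Agent.H658.KKL

variable {p : ℕ} {M : Ideal AlgInt} {V : ValuationSubring ℂ}

section rat

variable {A B : Type*}

theorem PRat.comp {χ : A → ℂ} (h : PRat p χ) (f : B → A) : PRat p fun b => χ (f b) := by
  obtain ⟨n, hn, h⟩ := h
  exact ⟨n, hn, fun b => h (f b)⟩

theorem PRat.of_surj {χ : A → ℂ} {ψ : B → ℂ} (h : PRat p ψ) (e : ∀ a, ∃ b, χ a = ψ b) : PRat p χ := by
  obtain ⟨n, hn, h⟩ := h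
  refine ⟨n, hn, fun a => ?_⟩
  obtain ⟨b, hb⟩ := e a
  exact hb ▸ h b

theorem PRat.mul (hp : p.Prime) {χ ψ : A → ℂ} (h1 : PRat p χ) (h2 : PRat p ψ) : PRat p fun a => χ a * ψ a := by
  obtain ⟨m, hm, h1⟩ := h1
  obtain ⟨n, hn, h2⟩ := h2
  have h3 : ¬ p ∣ m * n := fun h => ((Nat.Prime.dvd_mul hp).1 h).elim hm hn
  have h0 : m * n ≠ 0 := fun h => h3 (h ▸ dvd_zero p)
  exact ⟨m * n, h3, fun a => mul_mem (ODD.Red.cyc_mono h0 (dvd_mul_right m n) (h1 a))
    (ODD.Red.cyc_mono h0 (dvd_mul_left n m) (h2 a))⟩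

theorem PRat.ind {G : Type*} [Group G] [Fintype G] (T : Subgroup G) {ξ : T → ℂ} (h : PRat p ξ) : PRat p (indFun T ξ) := by
  obtain ⟨n, hn, h⟩ := h
  refine ⟨n, hn, fun g => ?_⟩
  rw [indFun_apply]
  refine mul_mem (inv_mem (natCast_mem _ _)) (sum_mem fun x _ => ?_)
  by_cases hx : x⁻¹ * g * x ∈ T
  · rw [extendByZero_of_mem T ξ hx]
    exact h _
  · rw [extendByZero_of_notMem T ξ hx]
    exact zero_mem _

end rat

section cl

variable {G : Type} [Group G] [Fintype G] {N T : Subgroup G} [hN : N.Normal] {θ : N → ℂ} {j : IBr V N}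

theorem cl_split (hM : IsPModular p M) (hV : Above M V) (hj : ∀ n, IsPRegular p n → θ n = phi p j n)
    (hT : ∀ g : G, g ∈ T ↔ ∀ n : N, θ (MulAut.conjNormal g n) = θ n)
    (hs : ∀ g : G, (∀ n : N, IsPRegular p n → θ (MulAut.conjNormal g n) = θ n) → g ∈ T) (hNT : N ≤ T)
    {ξ : T → ℂ} (hξ : IsIrrCharacter T ξ) (hi : IsIrrCharacter G (indFun T ξ)) {b : ℂ}
    (hb : ∀ n : N, ξ (inclusion hNT n) = b * θ n) :
    InS p (OvS p (inclusion hNT) {j}) ξ ∧ InS p (OvS p (inclusion hNT) {j})ᶜ fun t : T => indFun T ξ t - ξ t := by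
  classical
  have := Fintype.ofFinite T
  refine ⟨inS_ovS hM hV (isIrr_isCharacter hξ) _ (inS_of_mul b fun n hn => by rw [hb, hj n hn]), ?_⟩
  have h1 : IsCharacter T ((fun t : T => indFun T ξ t) - ξ) := by
    refine OddOrderCharacters.Clifford.isCharacter_sub_irr (Characters.Clifford.isCharacter_restrict T
      (isIrr_isCharacter hi)) hξ fun h => ?_
    have h2 := classInner_irr_self hi
    rw [CharactersDeep.NormalInd.classInner_indFun T ξ _ (isIrr_isClassFunction hi), ← classInner_conj_symm, h,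
      map_zero] at h2
    exact zero_ne_one h2
  have h2 : InS p {j}ᶜ fun n : N => ((fun t : T => indFun T ξ t) - ξ) (inclusion hNT n) := by
    have h3 : ∀ x ∈ Finset.univ.filter (fun x : G => ¬ x⁻¹ ∈ T), InS p {j}ᶜ fun n : N => θ (MulAut.conjNormal x⁻¹ n) := by
      intro x hx
      let e : N →* N := (MulAut.conjNormal x⁻¹ : MulAut N).toMonoidHom
      have he : Function.Surjective e := (MulAut.conjNormal x⁻¹ : MulAut N).surjective
      have h4 : ∀ n, IsPRegular p n → θ (MulAut.conjNormal x⁻¹ n) = phi p (infl e he j) n := fun n hn =>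
        (hj _ (reg_map e hn)).trans (phi_infl e he j hn).symm
      have h6 : infl e he j ∈ ({j}ᶜ : Set (IBr V N)) := fun h5 => (Finset.mem_filter.1 hx).2 (hs _ fun n hn => by
        rw [h4 n hn, hj n hn, Set.mem_singleton_iff.1 h5])
      exact (inS_phi h6).congr h4
    refine ((inS_sum _ h3).mul ((Nat.card T : ℂ)⁻¹ * b)).congr fun n _ => ?_
    have h4 : ∀ x : G, extendByZero T ξ (x⁻¹ * (n : G) * x) = b * θ (MulAut.conjNormal x⁻¹ n) := fun x => by
      have h5 : x⁻¹ * (n : G) * x = (MulAut.conjNormal x⁻¹ n : N) := by rw [MulAut.conjNormal_apply, inv_inv]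
      rw [h5, extendByZero_of_mem T ξ (hNT (MulAut.conjNormal x⁻¹ n).2), ← hb]
      rfl
    have h5 : ∑ x ∈ Finset.univ.filter (fun x : G => x⁻¹ ∈ T), θ (MulAut.conjNormal x⁻¹ n) = Nat.card T * θ n := by
      rw [Finset.sum_congr rfl (g := fun _ => θ n) fun x hx => (hT _).1 (Finset.mem_filter.1 hx).2 n, Finset.sum_const,
        nsmul_eq_mul, Nat.card_eq_fintype_card, Fintype.card_subtype]
      congr 3
      exact Finset.filter_congr fun x _ => inv_mem_iff
    have h6 : (Nat.card T : ℂ) ≠ 0 := card_ne_zero_complex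
    show indFun T ξ (n : G) - ξ (inclusion hNT n) = _
    rw [indFun_apply, Finset.sum_congr rfl fun x _ => h4 x, ← Finset.mul_sum,
      ← Finset.sum_filter_add_sum_filter_not Finset.univ (fun x : G => x⁻¹ ∈ T), h5, hb]
    field_simp
    ring
  exact (inS_ovS hM hV h1 _ h2).mono
    (Set.subset_compl_iff_disjoint_left.2 (ovS_disjoint hM hV _ disjoint_compl_right))

variable {S : Set (IBr V T)} {ξ ξ' : T → ℂ} {χ χ' : G → ℂ}

theorem cl_prop (hM : IsPModular p M) (hV : Above M V) (h1 : InS p S ξ) (h2 : InS p Sᶜ fun t : T => χ t - ξ t)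
    (h1' : InS p S ξ') (h2' : InS p Sᶜ fun t : T => χ' t - ξ' t) {a a' : ℂ}
    (h : ∀ x : G, IsPRegular p x → χ x * a = χ' x * a') (t : T) (ht : IsPRegular p t) : ξ t * a = ξ' t * a' := by
  have h3 := InS.sep hM hV disjoint_compl_right ((h1.mul a).sub (h1'.mul a'))
    (((h2'.mul a').sub (h2.mul a)).congr fun x hx => by
      have h4 := h x (reg_map T.subtype hx)
      linear_combination h4) t ht
  linear_combination h3

theorem cl_lf (hM : IsPModular p M) (hV : Above M V) (h1 : InS p S ξ) (h2 : InS p Sᶜ fun t : T => χ t - ξ t)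
    (hl : Lf p V ξ) {i : IBr V G} {m : ℕ} (h : ∀ x : G, IsPRegular p x → χ x = m * phi p i x) : Lf p V χ := by
  classical
  obtain ⟨k, hk⟩ := hl
  obtain ⟨n, a, -, ha⟩ := exists_res hM hV T.subtype i
  have h3 : InS p S fun t => ∑ l ∈ Finset.univ.filter (fun l => a l ∈ S), phi p (a l) t :=
    inS_sum _ fun l hl => inS_phi (Finset.mem_filter.1 hl).2
  have h4 : InS p Sᶜ fun t => ∑ l ∈ Finset.univ.filter (fun l => ¬ a l ∈ S), phi p (a l) t :=
    inS_sum _ fun l hl => inS_phi (Finset.mem_filter.1 hl).2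
  have h5 := InS.sep hM hV disjoint_compl_right (h1.sub (h3.mul m)) (((h4.mul m).sub h2).congr fun t ht => by
    have h6 : χ t = m * ∑ l, phi p (a l) t := by rw [← ha t ht]; exact h _ (reg_map T.subtype ht)
    rw [← Finset.sum_filter_add_sum_filter_not Finset.univ (fun l => a l ∈ S)] at h6
    linear_combination h6)
  obtain ⟨rfl, -, -⟩ := one_of_phi hM hV (j := k) (c := m) (idx := fun l : {l // a l ∈ S} => a l.1) fun t ht => by
    rw [← hk t ht, sub_eq_zero.1 (h5 t ht), Finset.sum_subtype (Finset.univ.filter fun l => a l ∈ S)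
      (p := fun l => a l ∈ S) fun l => by rw [Finset.mem_filter]; exact and_iff_right (Finset.mem_univ l)]
  exact ⟨i, fun x hx => by rw [h x hx, Nat.cast_one, one_mul]⟩

end cl

section step

variable {G : Type} [Group G] [Finite G] {B : Set (IrrCharacter G)}

/-- the character on the copy of `N` in `T` -/
def sub {N T : Subgroup G} (θ : N → ℂ) : N.subgroupOf T → ℂ := fun n => θ ⟨(n : T), mem_subgroupOf.1 n.2⟩

/-- **the step through a cover of the inertia group** -/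
theorem step (hM : IsPModular p M) (hV : Above M V) (hB : IsPBlock M B) (hR : R1 p B) {N T : Subgroup G}
    [hN : N.Normal] [Fintype N] {θ : N → ℂ} (hθ : IsIrrCharacter N θ) (hl : Lf p V θ)
    (hT : ∀ g : G, g ∈ T ↔ ∀ n : N, θ (MulAut.conjNormal g n) = θ n)
    (hs : ∀ g : G, (∀ n : N, IsPRegular p n → θ (MulAut.conjNormal g n) = θ n) → g ∈ T) (hNT : N ≤ T)
    {χ₁ : IrrCharacter G} (hχ₁ : χ₁ ∈ B) (ho : classInner (fun n : N => (χ₁ : G → ℂ) n) θ ≠ 0)
    {E : Type} [Group E] [Finite E] (C : Cover p (N.subgroupOf T) (sub θ) E) (hr : p ≠ 2 → PRat p C.ψ)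
    (hH : OMg p M (E ⧸ C.s.range)) : ∃ χ, Mn B χ ∧ (p ≠ 2 → PRat p (χ : G → ℂ)) := by
  have hMp := Blocks.Local.isPrime_of_isPModular hM
  have := Fintype.ofFinite G
  have := Fintype.ofFinite T
  have := Fintype.ofFinite (N.subgroupOf T)
  let e : N.subgroupOf T ≃* N := subgroupOfEquivOfLe hNT
  have hθ' : IsIrrCharacter (N.subgroupOf T) (sub θ) := isIrr_comp e.toMonoidHom e.surjective hθ
  have hl' : Lf p V fun n => C.ψ (C.s n) := (hl.comp e.toMonoidHom e.surjective).congr fun n _ => C.ext n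
  obtain ⟨j, hj⟩ := hl
  obtain ⟨ξ₁, hξ₁, hi₁, ho₁⟩ := CharDeep.CliffordCorr.clifford_correspondence N θ hθ T hT hNT _ χ₁.2 ho
  obtain ⟨η₁, hη₁⟩ := C.exists_star hθ' ⟨ξ₁, hξ₁⟩ (by
    rw [← ho₁, ← Characters.Clifford.classInner_comp_mulEquiv e] at ho
    exact ho)
  have key : ∀ η ∈ blockOf M (η₁ : E ⧸ C.s.range → ℂ), ∃ (ξ : IrrCharacter T) (χ : IrrCharacter G), χ ∈ B ∧
      (χ : G → ℂ) = indFun T ξ ∧ (∀ x : E, (ξ : T → ℂ) (C.π x) = C.ψ x * (η : E ⧸ C.s.range → ℂ) x) ∧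
      InS p (OvS p (inclusion hNT) {j}) ξ ∧
      InS p (OvS p (inclusion hNT) {j})ᶜ (fun t : T => (χ : G → ℂ) t - (ξ : T → ℂ) t) ∧
      (χ : G → ℂ) 1 = T.index * (C.ψ 1 * (η : E ⧸ C.s.range → ℂ) 1) := by
    intro η hη
    obtain ⟨ξ, hξ⟩ := FongTwo.descend C hM hθ' (χ := ⟨ξ₁, hξ₁⟩) hη₁ hη
    have h1 : ∀ n : N, (ξ : T → ℂ) (inclusion hNT n) = (charDegree (η : E ⧸ C.s.range → ℂ) : ℂ) * θ n := fun n => by
      rw [← Blocks.Basic.irr_one_eq_charDegree η.2, mul_comm]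
      exact FongTwo.res_eq C hξ (e.symm n)
    obtain ⟨h2, h3, -⟩ := H525.L2.over_ind N hθ T hT hNT ξ.2 (Blocks.Basic.charDegree_pos η.2).ne' h1
    obtain ⟨h4, h5⟩ := cl_split hM hV hj hT hs hNT ξ.2 h2 h1
    refine ⟨ξ, ⟨_, h2⟩, H608.BlockRank.isUnion_of_isPBlock hB χ₁ _ (fun g => ?_) hχ₁, rfl, hξ, h4, h5, ?_⟩
    · rw [← hi₁]
      show MemLocalIdeal M (_ - centralChar (indFun T (ξ : T → ℂ)) g)
      rw [Blocks.Induced.centralChar_indFun, Blocks.Induced.centralChar_indFun]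
      exact Blocks.Induced.memLocalIdeal_induced_sub hMp T ⟨ξ₁, hξ₁⟩ ξ
        (FongTwo.sameBlock_of_star C hM hθ' hη₁ hξ hη) g
    · have h6 := hξ 1
      rw [map_one, QuotientGroup.mk_one] at h6
      rw [← h6]
      exact h3
  have hb : IsPBlock M (blockOf M (η₁ : E ⧸ C.s.range → ℂ)) := ⟨η₁, rfl⟩
  have hψ := isIrr_isCharacter C.irr
  have hR' : R1 p (blockOf M (η₁ : E ⧸ C.s.range → ℂ)) := by
    intro η hη η' hη' y hy
    obtain ⟨ξ, χ, h1, -, h2, h3, h4, h5⟩ := key η hη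
    obtain ⟨ξ', χ', h1', -, h2', h3', h4', h5'⟩ := key η' hη'
    obtain ⟨x, hx, rfl, h6⟩ := exists_reg_ne boxGal hM hV C.s C.s_injective hψ hl' y hy
    have h7 := cl_prop hM hV h3 h4 h3' h4' (hR χ h1 χ' h1') (C.π x) (reg_map C.π hx)
    rw [h2, h2', h5, h5'] at h7
    have h8 : C.ψ x * (T.index * C.ψ 1) ≠ 0 :=
      mul_ne_zero h6 (mul_ne_zero (Nat.cast_ne_zero.2 index_ne_zero_of_finite) (isIrr_apply_one_ne_zero C.irr))
    refine mul_left_cancel₀ h8 ?_
    linear_combination h7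
  obtain ⟨η, hη, hr'⟩ := hH _ hb hR'
  obtain ⟨ξ, χ, h1, h0, h2, h3, h4, -⟩ := key η hη.1
  have h5 : IsCharacter E fun x => (ξ : T → ℂ) (C.π x) := isIrr_isCharacter (isIrr_comp C.π C.surj ξ.2)
  have h6 : Lf p V (ξ : T → ℂ) := Lf.of_res hM hV (isIrr_isCharacter ξ.2) C.π
    (lf_mul boxGal hM hV C.s C.s_injective hψ hl' h5 (hR'.lf hM hV hb hη) fun x _ => h2 x)
  obtain ⟨i, -, hi⟩ := hR.exists_phi hM hV hB
  obtain ⟨m, hm⟩ := hi χ h1
  refine ⟨χ, hR.mn hM hV hB h1 (cl_lf hM hV h3 h4 h6 hm), fun hp => ?_⟩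
  rw [h0]
  refine PRat.ind T (((hr hp).mul hM.1 ((hr' hp).comp fun x : E => (x : E ⧸ C.s.range))).of_surj fun t => ?_)
  obtain ⟨x, rfl⟩ := C.surj t
  exact ⟨x, h2 x⟩

/-- **the step from a good character of a normal subgroup** -/
theorem step_tri (hM : IsPModular p M) (hV : Above M V) (hB : IsPBlock M B) (hR : R1 p B) {N : Subgroup G}
    [hN : N.Normal] [Fintype N] {θ : N → ℂ} (h : Tri p V N θ) {χ₁ : IrrCharacter G} (hχ₁ : χ₁ ∈ B)
    (ho : classInner (fun n : N => (χ₁ : G → ℂ) n) θ ≠ 0) (ih : IH p M (N.index + 1)) :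
    ∃ χ, Mn B χ ∧ (p ≠ 2 → PRat p (χ : G → ℂ)) := by
  have : Fact p.Prime := ⟨hM.1⟩
  let T : Subgroup G :=
    { carrier := {g | ∀ n : N, θ (MulAut.conjNormal g n) = θ n}
      one_mem' := fun n => by rw [map_one, MulAut.one_apply]
      mul_mem' := fun {a b} ha hb n => by rw [map_mul, MulAut.mul_apply, ha, hb]
      inv_mem' := fun {a} ha n => by rw [← ha, ← MulAut.mul_apply, ← map_mul, mul_inv_cancel, map_one, MulAut.one_apply] }
  have hNT : N ≤ T := fun g hg n => isIrr_isClassFunction h.irr n ⟨g, hg⟩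
  let e : N.subgroupOf T ≃* N := subgroupOfEquivOfLe hNT
  have hθ' : IsIrrCharacter (N.subgroupOf T) (sub θ) := isIrr_comp e.toMonoidHom e.surjective h.irr
  have hinv : ∀ (g : T) (n : N.subgroupOf T), sub θ (MulAut.conjNormal g n) = sub θ n := fun g n => g.2 (e n)
  obtain ⟨E, _, _, C, hr⟩ : ∃ (E : Type) (_ : Group E) (_ : Finite E) (C : Cover p (N.subgroupOf T) (sub θ) E),
      p ≠ 2 → PRat p C.ψ := by
    by_cases hp : p = 2
    · obtain ⟨P⟩ : Nonempty (Sylow p T) := inferInstance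
      let Q : Subgroup T := N.subgroupOf T ⊔ (P : Subgroup T)
      have hQ : N ≤ Q.map T.subtype := fun n hn => ⟨⟨n, hNT hn⟩, mem_sup_left (mem_subgroupOf.2 hn), rfl⟩
      obtain ⟨Ψ, h1, h2⟩ := h.ext hp (Q.map T.subtype) hQ (by
        rintro _ ⟨y, hy, rfl⟩
        have h1 : QuotientGroup.mk' (N.subgroupOf T) y ∈ (P : Subgroup T).map (QuotientGroup.mk' _) := by
          rwa [← mem_comap, comap_map_eq, QuotientGroup.ker_mk', sup_comm]
        obtain ⟨k, hk⟩ := P.isPGroup'.map _ ⟨_, h1⟩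
        exact ⟨k, (QuotientGroup.eq_one_iff (N := N.subgroupOf T) (y ^ p ^ k)).1
          ((map_pow (QuotientGroup.mk' _) y _).trans (congrArg Subtype.val hk))⟩) (by
        rintro _ ⟨y, -, rfl⟩
        exact y.2)
      obtain ⟨E, _, _, ⟨C⟩⟩ := boxCovExt p hM.1 T _ _ hθ' hinv Q le_sup_left
        (fun h3 => P.not_dvd_index (h3.trans (index_dvd_of_le le_sup_right))) (by
          obtain ⟨n, ρ, rfl⟩ := h1
          exact ⟨_, ⟨n, ρ.comp (T.subtype.subgroupMap Q), rfl⟩, fun n => h2 (e n)⟩)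
      exact ⟨E, inferInstance, inferInstance, C, fun h3 => absurd hp h3⟩
    · obtain ⟨E, _, _, C, h1⟩ := boxCovOdd_of boxGal p M V hM hV hp T _ _ hθ' hinv
        (h.lf.comp e.toMonoidHom e.surjective) ((h.rat hp).comp e)
      exact ⟨E, inferInstance, inferInstance, C, fun _ => h1⟩
  refine step (T := T) hM hV hB hR h.irr h.lf (fun _ => Iff.rfl) h.sta hNT hχ₁ ho C hr (ih _ (Nat.lt_succ_of_le ?_))
  have h1 : (center (E ⧸ C.s.range)).index ∣ N.index :=
    (index_dvd_of_le C.Z_le_center).trans (C.index_Z ▸ relIndex_dvd_index_of_normal N T)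
  exact Nat.le_of_dvd (Nat.pos_of_ne_zero index_ne_zero_of_finite) h1

end step

section quot

variable {G : Type*} [Group G] [Finite G] {B : Set (IrrCharacter G)}

/-- **the step through a quotient** -/
theorem step_quot (hM : IsPModular p M) (hV : Above M V) (hB : IsPBlock M B) (hR : R1 p B) {Q : Type} [Group Q]
    (f : G →* Q) (hf : Function.Surjective f) {χ₁ : IrrCharacter G} (hχ₁ : χ₁ ∈ B) {η₁ : IrrCharacter Q}
    (h : ∀ g, (χ₁ : G → ℂ) g = (η₁ : Q → ℂ) (f g)) (hH : OMg p M Q) : ∃ χ, Mn B χ ∧ (p ≠ 2 → PRat p (χ : G → ℂ)) := by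
  have hMp := Blocks.Local.isPrime_of_isPModular hM
  have := Finite.of_surjective f hf
  have key : ∀ η ∈ blockOf M (η₁ : Q → ℂ), (⟨_, isIrr_comp f hf η.2⟩ : IrrCharacter G) ∈ B := by
    intro η hη
    refine H608.BlockRank.isUnion_of_isPBlock hB χ₁ _ (fun g => ?_) hχ₁
    obtain ⟨c, hc⟩ : (centralizer ({f g} : Set Q)).index ∣ (centralizer ({g} : Set G)).index := by
      rw [← FongTwo.index_comap_centralizer f hf]
      exact index_dvd_of_le (FongTwo.centralizer_le_comap f g)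
    have h1 : centralChar (χ₁ : G → ℂ) g - centralChar ((η : Q → ℂ) ∘ f) g =
        c * (centralChar (η₁ : Q → ℂ) (f g) - centralChar (η : Q → ℂ) (f g)) := by
      unfold centralChar
      rw [hc, h, h, Function.comp_apply, Function.comp_apply, map_one, Nat.cast_mul]
      ring
    show MemLocalIdeal M (_ - centralChar ((η : Q → ℂ) ∘ f) g)
    rw [h1]
    exact Blocks.LocalRing.memLocalIdeal_mul_left hM (Blocks.LocalRing.memLocalRing_natCast hM c) (hη (f g))
  have hb : IsPBlock M (blockOf M (η₁ : Q → ℂ)) := ⟨η₁, rfl⟩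
  have hR' : R1 p (blockOf M (η₁ : Q → ℂ)) := by
    intro η hη η' hη' y hy
    obtain ⟨x, hx, rfl⟩ := exists_reg_lift hM.1 f hf hy
    have h1 := hR _ (key η hη) _ (key η' hη') x hx
    simp only [Function.comp_apply, map_one] at h1
    exact h1
  obtain ⟨η, hη, hr⟩ := hH _ hb hR'
  exact ⟨_, hR.mn hM hV hB (key η hη.1) ((hR'.lf hM hV hb hη).comp f hf), fun hp => (hr hp).comp f⟩

end quot

end Cfsg.Agent.OM
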